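import Groth.Prelude.Def_RootCh
import Mathlib.LinearAlgebra.RootSystem.BaseExists
import Mathlib.LinearAlgebra.RootSystem.Finite.Nondegenerate
import Mathlib.Data.Sign.Basic

/-!
Basic theory of Weyl chambers, fundamental weights and facets of a finite root system over an
ordered field, for the definitions of `RootCh`.
-/

noncomputable section

set_option linter.unusedSectionVars false

open Module RootCh
open scoped Classical

namespace Groth.Agent.RootChLib

universe u v w x

variable {ι : Type u} {R : Type v} {M : Type w} {N : Type x}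
  [Field R] [LinearOrder R] [IsStrictOrderedRing R]
  [AddCommGroup M] [Module R M] [AddCommGroup N] [Module R N] [Finite ι]
  {P : RootPairing ι R M N} [P.IsRootSystem]

/-! ### the invariant form -/

variable (P) in
/-- The canonical polarisation as an equivalence. -/
def pol : M ≃ₗ[R] N :=
  letI := Fintype.ofFinite ι
  P.PolarizationEquiv

/-- The invariant inner product. -/
def ip (P : RootPairing ι R M N) [P.IsRootSystem] (x y : M) : R := P.toLinearMap x (pol P y)

lemma ip_eq (x y : M) : letI := Fintype.ofFinite ι; ip P x y = P.RootForm y x := by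
  let := Fintype.ofFinite ι
  rw [ip, pol, P.polarizationEquiv_apply, P.toLinearMap_apply_apply_Polarization]

lemma ip_comm (x y : M) : ip P x y = ip P y x := by
  let := Fintype.ofFinite ι
  rw [ip_eq, ip_eq]
  simp [RootPairing.rootForm_apply_apply, mul_comm]

lemma ip_self_pos {x : M} (hx : x ≠ 0) : 0 < ip P x x := by
  let := Fintype.ofFinite ι
  rw [ip_eq]
  exact P.rootForm_pos_of_ne_zero (by simp) hx

/-- half the squared length of a root -/
def cw (P : RootPairing ι R M N) [P.IsRootSystem] (i : ι) : R := ip P (P.root i) (P.root i) / 2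

lemma cw_pos (i : ι) : 0 < cw P i := half_pos (ip_self_pos (P.ne_zero i))

lemma root'_pol (i : ι) (x : M) : P.root' i (pol P x) = cw P i * P.coroot' i x := by
  let := Fintype.ofFinite ι
  have h0 : (cw P i) ≠ 0 := (cw_pos i).ne'
  have hq : P.coroot i = (cw P i)⁻¹ • pol P (P.root i) := by
    rw [P.coroot_eq_polarizationEquiv_apply_root]
    have : P.RootForm (P.root i) (P.root i) = 2 * cw P i := by
      rw [cw, ip_eq]; ring
    rw [this, pol]
    congr 1
    field_simp
  have h2 : P.coroot' i x = (cw P i)⁻¹ * ip P x (P.root i) := by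
    change P.toLinearMap x (P.coroot i) = _
    rw [hq, map_smul, smul_eq_mul, ip]
  rw [h2, ← mul_assoc, mul_inv_cancel₀ h0, one_mul, ip_comm]
  rfl

lemma cosgnVec_pol (x : M) : cosgnVec P (pol P x) = sgnVec P x := by
  funext i
  simp only [cosgnVec, sgnVec, root'_pol, sign_mul, sign_pos (cw_pos i), one_mul]

lemma toLinearMap_pol_symm (x : M) (y : N) :
    P.toLinearMap x y = ip P x ((pol P).symm y) := by simp [ip]

/-! ### signs and negatives -/

lemma root_neg' (i : ι) : P.root (P.reflectionPerm i i) = -P.root i := by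
  rw [P.root_reflectionPerm, P.reflection_apply_self]

lemma coroot'_neg (i : ι) (x : M) : P.coroot' (P.reflectionPerm i i) x = -P.coroot' i x := by
  change P.toLinearMap x (P.coroot _) = -P.toLinearMap x (P.coroot i)
  rw [P.coroot_reflectionPerm, P.coreflection_apply_self, map_neg]

lemma root'_neg (i : ι) (y : N) : P.root' (P.reflectionPerm i i) y = -P.root' i y := by
  change P.toLinearMap (P.root _) y = _
  rw [root_neg', map_neg, LinearMap.neg_apply]

lemma sgnVec_neg (i : ι) (x : M) : sgnVec P x (P.reflectionPerm i i) = -sgnVec P x i := by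
  simp only [sgnVec, coroot'_neg, Left.sign_neg]

lemma Facet.sgn_neg (F : RootCh.Facet P) (i : ι) :
    F.sgn (P.reflectionPerm i i) = -F.sgn i := by
  obtain ⟨x, hx⟩ := F.exists_sgnVec_eq
  rw [← hx, sgnVec_neg]

lemma coroot'_perm (k i : ι) (x : M) :
    P.coroot' (P.reflectionPerm k i) x = P.coroot' i (P.reflection k x) := by
  simp only [P.coroot'_reflection]

lemma sgn_eq_one_iff {a : R} : SignType.sign a = 1 ↔ 0 < a := sign_eq_one_iff
lemma sgn_eq_neg_iff {a : R} : SignType.sign a = -1 ↔ a < 0 := sign_eq_neg_one_iff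
lemma sgn_ne_neg_iff {a : R} : SignType.sign a ≠ -1 ↔ 0 ≤ a := by
  rw [Ne, sgn_eq_neg_iff, not_lt]

/-! ### fundamental weights -/

section Weights

variable (b : P.Base)

lemma ext_coroot' {x y : M} (h : ∀ k : b.support, P.coroot' k x = P.coroot' k y) : x = y := by
  refine P.toPerfPair.injective (b.toCoweightBasis.ext fun k => ?_)
  rw [b.toCoweightBasis_apply]
  exact h k

lemma ext_root' {x y : N} (h : ∀ k : b.support, P.root' k x = P.root' k y) : x = y :=
  ext_coroot' (P := P.flip) b.flip h

lemma coroot'_fw (i j : b.support) :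
    P.coroot' j (fundWeight b i) = if j = i then 1 else 0 := by
  split
  next h => rw [h, coroot'_fundWeight_self]
  next h => rw [coroot'_fundWeight_of_ne b i j h]

lemma root'_fcw (i j : b.support) :
    P.root' j (fundCoweight b i) = if j = i then 1 else 0 :=
  coroot'_fw (P := P.flip) b.flip i j

lemma tlm_fw (i j : b.support) :
    P.toLinearMap (fundWeight b i) (P.coroot j) = if j = i then 1 else 0 :=
  coroot'_fw b i j

lemma sum_coroot'_smul_fw (x : M) :
    x = ∑ k : b.support, P.coroot' k x • fundWeight b k := by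
  classical
  refine ext_coroot' b fun j => ?_
  simp [tlm_fw]

lemma sum_root'_smul_fcw (y : N) :
    y = ∑ k : b.support, P.root' k y • fundCoweight b k :=
  sum_coroot'_smul_fw (P := P.flip) b.flip y

lemma root_eq_sum (i : ι) :
    P.root i = ∑ k : b.support, P.root' i (fundCoweight b k) • P.root k := by
  classical
  refine P.toPerfPair.injective (LinearMap.ext fun y => ?_)
  conv_lhs => rw [sum_root'_smul_fcw b y]
  conv_rhs => rw [sum_root'_smul_fcw b y]
  simp only [map_sum, map_smul, LinearMap.coe_sum, Finset.sum_apply, LinearMap.smul_apply,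
    smul_eq_mul]
  refine Finset.sum_congr rfl fun j _ => ?_
  congr 1
  have : ∀ c : b.support, P.toLinearMap (P.root c) (fundCoweight b j) =
      if c = j then 1 else 0 := fun c => root'_fcw b j c
  simp [this]

lemma root'_eq_sum (i : ι) (y : N) :
    P.root' i y = ∑ k : b.support, P.root' i (fundCoweight b k) * P.root' k y := by
  change P.toLinearMap (P.root i) y = _
  conv_lhs => rw [root_eq_sum b i]
  simp

/-- The sum of the fundamental weights. -/
def rho : M := ∑ k : b.support, fundWeight b k

lemma coroot'_rho (k : b.support) : P.coroot' k (rho b) = 1 := by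
  classical
  simp [rho, tlm_fw]

lemma fw_injective [Nontrivial R] : Function.Injective (fundWeight b) := by
  intro i j h
  by_contra hne
  have h1 := coroot'_fundWeight_self b i
  rw [h, coroot'_fundWeight_of_ne b j i hne] at h1
  exact zero_ne_one h1

lemma fw_linearIndependent : LinearIndependent R (fundWeight b) := by
  classical
  rw [Fintype.linearIndependent_iff]
  intro g hg i
  have := congrArg (P.coroot' i) hg
  simpa [tlm_fw] using this

lemma fundWeight_ne_zero (k : b.support) : fundWeight b k ≠ 0 := by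
  intro h
  have h1 := coroot'_fundWeight_self b k
  rw [h, map_zero] at h1
  exact zero_ne_one h1

lemma pos_coeff {i : ι} (hi : b.IsPos i) (k : b.support) :
    0 ≤ P.root' i (fundCoweight b k) := by
  classical
  obtain ⟨f, -, hpn, heq⟩ := b.exists_root_eq_sum_int i
  have hf : 0 < f := by
    refine hpn.resolve_right fun h => ?_
    have h1 := (RootPairing.Base.isPos_iff b).mp hi
    rw [RootPairing.Base.height_eq_sum heq] at h1
    exact h1.not_ge (Finset.sum_nonpos fun j _ => h.le j)
  change 0 ≤ P.toLinearMap (P.root i) _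
  rw [heq, map_sum, LinearMap.coe_sum, Finset.sum_apply]
  refine Finset.sum_nonneg fun j hj => ?_
  rw [map_zsmul, LinearMap.smul_apply, zsmul_eq_mul]
  refine mul_nonneg (mod_cast hf.le j) ?_
  change 0 ≤ P.root' (⟨j, hj⟩ : b.support) (fundCoweight b k)
  rw [root'_fcw]; split <;> simp

lemma coeff_int [CharZero R] (i : ι) (k : b.support) :
    ∃ z : ℤ, P.root' i (fundCoweight b k) = z := by
  classical
  obtain ⟨f, -, -, heq⟩ := b.exists_root_eq_sum_int i
  refine ⟨f k, ?_⟩
  change P.toLinearMap (P.root i) _ = _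
  rw [heq, map_sum, LinearMap.coe_sum, Finset.sum_apply, ← Finset.sum_coe_sort]
  simp only [map_zsmul, LinearMap.smul_apply, zsmul_eq_mul]
  have : ∀ c : b.support, P.toLinearMap (P.root c) (fundCoweight b k) =
      if c = k then 1 else 0 := fun c => root'_fcw b k c
  simp [this]

lemma cocoeff_int [CharZero R] (i : ι) (k : b.support) :
    ∃ z : ℤ, P.coroot' i (fundWeight b k) = z :=
  coeff_int (P := P.flip) b.flip i k

lemma exists_pos_coeff {i : ι} (hi : b.IsPos i) :
    ∃ k : b.support, 0 < P.root' i (fundCoweight b k) := by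
  by_contra! h
  refine P.ne_zero i ?_
  rw [root_eq_sum b i]
  refine Finset.sum_eq_zero fun k _ => ?_
  rw [le_antisymm (h k) (pos_coeff b hi k), zero_smul]

lemma isPos_neg (i : ι) : b.IsPos (P.reflectionPerm i i) ↔ ¬ b.IsPos i :=
  RootPairing.Base.IsPos.neg_iff_not b i

lemma coroot'_eq_sum (i : ι) (x : M) :
    cw P i * P.coroot' i x =
      ∑ k : b.support, P.root' i (fundCoweight b k) * (cw P k * P.coroot' k x) := by
  rw [← root'_pol, root'_eq_sum b i]
  simp only [root'_pol]

/-- On the closed chamber the positive roots are non-negative. -/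
lemma coroot'_nonneg {x : M} (hx : x ∈ closedChamber b) {i : ι} (hi : b.IsPos i) :
    0 ≤ P.coroot' i x := by
  refine (mul_nonneg_iff_of_pos_left (cw_pos (P := P) i)).mp ?_
  rw [coroot'_eq_sum b]
  exact Finset.sum_nonneg fun k _ => mul_nonneg (pos_coeff b hi k)
    (mul_nonneg (cw_pos _).le (hx k k.2))

lemma coroot'_pos_iff {x : M} (hx : x ∈ closedChamber b) {i : ι} (hi : b.IsPos i) :
    0 < P.coroot' i x ↔ ∃ k : b.support, 0 < P.root' i (fundCoweight b k) ∧ 0 < P.coroot' k x := by
  have hnn : ∀ k : b.support,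
      0 ≤ P.root' i (fundCoweight b k) * (cw P k * P.coroot' k x) := fun k =>
    mul_nonneg (pos_coeff b hi k) (mul_nonneg (cw_pos _).le (hx k k.2))
  rw [← mul_pos_iff_of_pos_left (cw_pos (P := P) i), coroot'_eq_sum b,
    Finset.sum_pos_iff_of_nonneg (fun k _ => hnn k)]
  simp only [Finset.mem_univ, true_and]
  refine exists_congr fun k => ⟨fun h => ?_, fun h => mul_pos h.1 (mul_pos (cw_pos _) h.2)⟩
  have h1 : 0 < P.root' i (fundCoweight b k) :=
    (pos_coeff b hi k).lt_of_ne' (left_ne_zero_of_mul h.ne')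
  refine ⟨h1, (hx k k.2).lt_of_ne' ?_⟩
  exact right_ne_zero_of_mul (right_ne_zero_of_mul h.ne')

lemma fundWeight_mem_closedChamber (k : b.support) : fundWeight b k ∈ closedChamber b := by
  intro i hi
  change 0 ≤ P.coroot' (⟨i, hi⟩ : b.support) _
  rw [coroot'_fw]; split <;> simp

lemma rho_mem_closedChamber : rho b ∈ closedChamber b := by
  intro i hi
  rw [coroot'_rho b ⟨i, hi⟩]
  exact zero_le_one

lemma isPos_iff_rho (i : ι) : b.IsPos i ↔ 0 < P.coroot' i (rho b) := by
  have key : ∀ j, b.IsPos j → 0 < P.coroot' j (rho b) := fun j hj => by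
    rw [coroot'_pos_iff b (rho_mem_closedChamber b) hj]
    obtain ⟨k, hk⟩ := exists_pos_coeff b hj
    exact ⟨k, hk, by rw [coroot'_rho]; exact one_pos⟩
  refine ⟨key i, fun h => by_contra fun hn => ?_⟩
  have := key _ ((isPos_neg b i).mpr hn)
  rw [coroot'_neg] at this
  linarith

lemma pol_fundWeight (k : b.support) :
    pol P (fundWeight b k) = cw P k • fundCoweight b k := by
  refine ext_root' b fun j => ?_
  rw [root'_pol, map_smul, smul_eq_mul, root'_fcw, coroot'_fw]
  split
  next h => rw [h]
  next => simp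

lemma sgnVec_fundWeight (k : b.support) (i : ι) :
    sgnVec P (fundWeight b k) i = SignType.sign (P.root' i (fundCoweight b k)) := by
  rw [← cosgnVec_pol, cosgnVec, pol_fundWeight, map_smul, smul_eq_mul, sign_mul,
    sign_pos (cw_pos _), one_mul]

end Weights

/-! ### reflected base -/

section Reflect

lemma aux_closure {V : Type*} [AddCommGroup V] [Module R V] (g : V ≃ₗ[R] V) (v : ι → V)
    (σ : Equiv.Perm ι) (h : ∀ i, v (σ i) = g (v i)) (s : Finset ι)
    (hs : ∀ i, v i ∈ AddSubmonoid.closure (v '' s) ∨ -v i ∈ AddSubmonoid.closure (v '' s))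
    (i : ι) :
    v i ∈ AddSubmonoid.closure (v '' (s.map σ.toEmbedding : Finset ι)) ∨
      -v i ∈ AddSubmonoid.closure (v '' (s.map σ.toEmbedding : Finset ι)) := by
  have him : v '' (s.map σ.toEmbedding : Finset ι) = g '' (v '' s) := by
    rw [Finset.coe_map, Set.image_image, Set.image_image]
    exact Set.image_congr' fun x => h x
  have key : ∀ x, x ∈ AddSubmonoid.closure (v '' s) →
      g x ∈ AddSubmonoid.closure (g '' (v '' s)) := by
    intro x hx
    have := AddSubmonoid.mem_map_of_mem g.toLinearMap.toAddMonoidHom hx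
    rwa [AddMonoidHom.map_mclosure] at this
  obtain ⟨j, rfl⟩ := σ.surjective i
  rw [him, h, ← map_neg]
  exact (hs j).imp (key _) (key _)

lemma aux_indep {V : Type*} [AddCommGroup V] [Module R V] (g : V ≃ₗ[R] V) (v : ι → V)
    (σ : Equiv.Perm ι) (h : ∀ i, v (σ i) = g (v i)) (s : Finset ι)
    (hs : LinearIndepOn R v (s : Set ι)) :
    LinearIndepOn R v ((s.map σ.toEmbedding : Finset ι) : Set ι) := by
  rw [Finset.coe_map]
  refine LinearIndepOn.image_of_comp _ _ ?_
  have : v ∘ σ.toEmbedding = g.toLinearMap ∘ v := funext h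
  rw [this]
  exact hs.map_injOn _ g.injective.injOn

/-- The base obtained by reflecting in the `k`-th root. -/
def sb (b : P.Base) (k : ι) : P.Base where
  support := b.support.map (P.reflectionPerm k).toEmbedding
  linearIndepOn_root :=
    aux_indep (P.reflection k) P.root _ (P.root_reflectionPerm k) _ b.linearIndepOn_root
  linearIndepOn_coroot :=
    aux_indep (P.coreflection k) P.coroot _ (P.coroot_reflectionPerm k) _ b.linearIndepOn_coroot
  root_mem_or_neg_mem :=
    aux_closure (P.reflection k) P.root _ (P.root_reflectionPerm k) _ b.root_mem_or_neg_mem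
  coroot_mem_or_neg_mem :=
    aux_closure (P.coreflection k) P.coroot _ (P.coroot_reflectionPerm k) _ b.coroot_mem_or_neg_mem

/-- The simple index of the reflected base corresponding to a simple index. -/
def sbIdx (b : P.Base) (k : ι) (j : b.support) : (sb b k).support :=
  ⟨P.reflectionPerm k j, Finset.mem_map_of_mem _ j.2⟩

lemma sbIdx_surjective (b : P.Base) (k : ι) : Function.Surjective (sbIdx b k) := by
  rintro ⟨l, hl⟩
  obtain ⟨j, hj, rfl⟩ := Finset.mem_map.mp hl
  exact ⟨⟨j, hj⟩, rfl⟩

lemma fundWeight_sb (b : P.Base) (k : ι) (j : b.support) :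
    fundWeight (sb b k) (sbIdx b k j) = P.reflection k (fundWeight b j) := by
  refine ext_coroot' (sb b k) fun l => ?_
  obtain ⟨l, rfl⟩ := sbIdx_surjective b k l
  change _ = P.coroot' (P.reflectionPerm k l) _
  rw [coroot'_perm, P.reflection_same, coroot'_fw, coroot'_fw]
  have : sbIdx b k l = sbIdx b k j ↔ l = j := by
    simp only [sbIdx, Subtype.ext_iff, EmbeddingLike.apply_eq_iff_eq]
  by_cases hlj : l = j
  · rw [if_pos hlj, if_pos (this.mpr hlj)]
  · rw [if_neg hlj, if_neg (mt this.mp hlj)]

lemma rho_sb (b : P.Base) (k : ι) : rho (sb b k) = P.reflection k (rho b) := by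
  refine ext_coroot' (sb b k) fun l => ?_
  obtain ⟨l, rfl⟩ := sbIdx_surjective b k l
  rw [coroot'_rho]
  change _ = P.coroot' (P.reflectionPerm k l) _
  rw [coroot'_perm, P.reflection_same, coroot'_rho]

lemma isPos_sb (b : P.Base) (k i : ι) :
    (sb b k).IsPos i ↔ b.IsPos (P.reflectionPerm k i) := by
  rw [isPos_iff_rho, isPos_iff_rho, rho_sb, coroot'_perm]

variable [P.IsCrystallographic] [P.IsReduced]

/-- Reflection in a simple root changes the sign of exactly that root. -/
lemma isPos_sb_iff (b : P.Base) (k : b.support) (i : ι) :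
    (sb b k).IsPos i ↔ (b.IsPos i ∧ i ≠ k) ∨ i = P.reflectionPerm k k := by
  rw [isPos_sb]
  have hk : b.IsPos k := RootPairing.Base.isPos_of_mem_support k.2
  refine ⟨fun h => ?_, ?_⟩
  · by_cases hi : i = P.reflectionPerm k k
    · exact Or.inr hi
    · have hne : P.reflectionPerm k i ≠ k := fun e => hi (by
        conv_lhs => rw [← P.reflectionPerm_self k i, e])
      have := RootPairing.Base.IsPos.reflectionPerm h k.2 hne
      rw [P.reflectionPerm_self] at this
      refine Or.inl ⟨this, fun e => ?_⟩
      rw [e, isPos_neg] at h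
      exact h hk
  · rintro (⟨h, hne⟩ | rfl)
    · exact RootPairing.Base.IsPos.reflectionPerm h k.2 hne
    · rwa [P.reflectionPerm_self]

/-- Induction towards the chambers containing a given vector. -/
theorem chamber_induction (x : M) {p : P.Base → Prop}
    (h0 : ∀ b : P.Base, x ∈ closedChamber b → p b)
    (h1 : ∀ (b : P.Base) (k : b.support), P.coroot' k x < 0 → p (sb b k) → p b)
    (b : P.Base) : p b := by
  generalize hn : {i | b.IsPos i ∧ P.coroot' i x < 0}.ncard = n
  induction n using Nat.strongRecOn generalizing b with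
  | ind n ih =>
    by_cases hx : x ∈ closedChamber b
    · exact h0 b hx
    obtain ⟨k, hk, hkx⟩ : ∃ k ∈ b.support, P.coroot' k x < 0 := by
      simpa [closedChamber, not_forall] using hx
    refine h1 b ⟨k, hk⟩ hkx (ih _ ?_ _ rfl)
    rw [← hn]
    refine Set.ncard_lt_ncard ?_ (Set.toFinite _)
    refine ⟨fun i hi => ?_, fun h => ?_⟩
    · obtain ⟨hpos, hlt⟩ := hi
      rcases (isPos_sb_iff b ⟨k, hk⟩ i).mp hpos with ⟨hp, -⟩ | rfl
      · exact ⟨hp, hlt⟩
      · rw [coroot'_neg] at hlt
        exact absurd hkx (not_lt.mpr (by linarith))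
    · obtain ⟨hp, -⟩ := h ⟨RootPairing.Base.isPos_of_mem_support hk, hkx⟩
      rcases (isPos_sb_iff b ⟨k, hk⟩ k).mp hp with ⟨-, hne⟩ | he
      · exact hne rfl
      · have := coroot'_neg (P := P) k x
        rw [← he] at this
        linarith

variable (P) in
lemma exists_closedChamber (x : M) : ∃ b : P.Base, x ∈ closedChamber b := by
  obtain ⟨b0⟩ := P.nonempty_base
  exact chamber_induction x (p := fun _ => ∃ b : P.Base, x ∈ closedChamber b)
    (fun b hb => ⟨b, hb⟩) (fun _ _ _ h => h) b0

lemma pairing_simple_nonpos (b : P.Base) (i j : b.support) (h : i ≠ j) :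
    P.pairing i j ≤ 0 := by
  rw [← P.algebraMap_pairingIn ℤ]
  have : P.pairingIn ℤ i j ≤ 0 := by
    by_contra! hc
    exact b.sub_notMem_range_root i.2 j.2
      (P.root_sub_root_mem_of_pairingIn_pos hc fun e => h (Subtype.ext e))
  simpa using this

end Reflect

/-! ### facets -/

section Facets

variable (F : RootCh.Facet P)

lemma mem_carrier_iff {x : M} : x ∈ F.carrier ↔ sgnVec P x = F.sgn := Iff.rfl

lemma cham_iff {b : P.Base} : b ∈ F.cham ↔ ∀ k ∈ b.support, F.sgn k ≠ -1 := by
  constructor
  · intro h k hk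
    obtain ⟨x, hx⟩ := F.exists_sgnVec_eq
    rw [← hx, sgnVec, sgn_ne_neg_iff]
    exact h hx k hk
  · intro h x (hx : sgnVec P x = F.sgn) k hk
    have := h k hk
    rwa [← hx, sgnVec, sgn_ne_neg_iff] at this

lemma mem_cham_ofVec {b : P.Base} (x : M) :
    b ∈ (RootCh.Facet.ofVec P x).cham ↔ x ∈ closedChamber b := by
  rw [cham_iff]
  refine forall₂_congr fun k hk => ?_
  change sgnVec P x k ≠ -1 ↔ _
  rw [sgnVec, sgn_ne_neg_iff]

lemma sgn_nonneg_of_isPos {b : P.Base} (hb : b ∈ F.cham) {i : ι} (hi : b.IsPos i) :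
    F.sgn i ≠ -1 := by
  obtain ⟨x, hx⟩ := F.exists_sgnVec_eq
  rw [← hx, sgnVec, sgn_ne_neg_iff]
  exact coroot'_nonneg b (hb hx) hi

/-- Two vectors of a closed chamber with the same zero simple pairings lie in the same facet. -/
lemma sgnVec_eq_of_simple (b : P.Base) {x y : M} (hx : x ∈ closedChamber b)
    (hy : y ∈ closedChamber b)
    (h : ∀ k : b.support, 0 < P.coroot' k x ↔ 0 < P.coroot' k y) :
    sgnVec P x = sgnVec P y := by
  have key : ∀ j, b.IsPos j → sgnVec P x j = sgnVec P y j := by
    intro j hj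
    by_cases hx0 : 0 < P.coroot' j x
    · have hy0 : 0 < P.coroot' j y := by
        obtain ⟨k, h1, h2⟩ := (coroot'_pos_iff b hx hj).mp hx0
        exact (coroot'_pos_iff b hy hj).mpr ⟨k, h1, (h k).mp h2⟩
      simp only [sgnVec, sign_pos hx0, sign_pos hy0]
    · have hy0 : ¬ 0 < P.coroot' j y := fun hc => by
        obtain ⟨k, h1, h2⟩ := (coroot'_pos_iff b hy hj).mp hc
        exact hx0 ((coroot'_pos_iff b hx hj).mpr ⟨k, h1, (h k).mpr h2⟩)
      simp only [sgnVec, (le_antisymm (not_lt.mp hx0) (coroot'_nonneg b hx hj)),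
        (le_antisymm (not_lt.mp hy0) (coroot'_nonneg b hy hj))]
  funext i
  by_cases hi : b.IsPos i
  · exact key i hi
  · have := key _ ((isPos_neg b i).mpr hi)
    rw [sgnVec_neg, sgnVec_neg] at this
    exact neg_injective this

/-- Membership of a facet can be tested on the simple roots of an adjacent chamber. -/
lemma mem_carrier_of_simple {b : P.Base} (hb : b ∈ F.cham) {x : M}
    (h : ∀ k : b.support, sgnVec P x k = F.sgn k) : x ∈ F.carrier := by
  obtain ⟨y, hy⟩ := F.exists_sgnVec_eq
  have hyc : y ∈ closedChamber b := hb hy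
  have hxc : x ∈ closedChamber b := fun k hk => by
    have := h ⟨k, hk⟩
    have h2 := (cham_iff F).mp hb k hk
    rwa [← this, sgnVec, sgn_ne_neg_iff] at h2
  rw [mem_carrier_iff, ← hy]
  refine sgnVec_eq_of_simple b hxc hyc fun k => ?_
  rw [← sgn_eq_one_iff, ← sgn_eq_one_iff]
  change sgnVec P x k = 1 ↔ sgnVec P y k = 1
  rw [h k, hy]

/-- The simple indices of an adjacent chamber at which the facet is positive. -/
def posIdx (b : P.Base) : Finset b.support :=
  Finset.univ.filter fun k => F.sgn k = 1

lemma mem_posIdx {b : P.Base} {k : b.support} : k ∈ posIdx F b ↔ F.sgn k = 1 := by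
  simp [posIdx]

lemma sgn_eq_zero_of_notMem {b : P.Base} (hb : b ∈ F.cham) {k : b.support}
    (hk : k ∉ posIdx F b) : F.sgn k = 0 := by
  have h1 := (cham_iff F).mp hb k k.2
  rw [mem_posIdx] at hk
  cases h : F.sgn k <;> simp_all

lemma coroot'_eq_zero_of_mem_carrier {b : P.Base} (hb : b ∈ F.cham) {x : M} (hx : x ∈ F.carrier)
    {k : b.support} (hk : k ∉ posIdx F b) : P.coroot' k x = 0 := by
  have := sgn_eq_zero_of_notMem F hb hk
  rwa [← (mem_carrier_iff F).mp hx, sgnVec, sign_eq_zero_iff] at this

lemma coroot'_pos_of_mem_carrier {b : P.Base} {x : M} (hx : x ∈ F.carrier)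
    {k : b.support} (hk : k ∈ posIdx F b) : 0 < P.coroot' k x := by
  rw [mem_posIdx, ← (mem_carrier_iff F).mp hx] at hk
  exact sgn_eq_one_iff.mp hk

/-- The sign of a positive root on a facet. -/
lemma sgn_eq_one_iff_coeff {b : P.Base} (hb : b ∈ F.cham) {i : ι} (hi : b.IsPos i) :
    F.sgn i = 1 ↔ ∃ k ∈ posIdx F b, 0 < P.root' i (fundCoweight b k) := by
  obtain ⟨x, hx⟩ := F.exists_sgnVec_eq
  rw [← hx, sgnVec, sgn_eq_one_iff, coroot'_pos_iff b (hb hx) hi]
  refine exists_congr fun k => ?_
  rw [mem_posIdx, ← hx, sgnVec, sgn_eq_one_iff]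
  tauto

/-- The roots vanishing on a facet have no component along its simple indices. -/
lemma coeff_eq_zero_of_sgn_zero {b : P.Base} (hb : b ∈ F.cham) {i : ι} (hi : F.sgn i = 0)
    {k : b.support} (hk : k ∈ posIdx F b) : P.root' i (fundCoweight b k) = 0 := by
  wlog hp : b.IsPos i generalizing i
  · have := this (i := P.reflectionPerm i i) (by rw [Facet.sgn_neg, hi, neg_zero])
      ((isPos_neg b i).mpr hp)
    rwa [root'_neg, neg_eq_zero] at this
  refine le_antisymm (not_lt.mp fun hc => ?_) (pos_coeff b hp k)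
  have := (sgn_eq_one_iff_coeff F hb hp).mpr ⟨k, hk, hc⟩
  rw [hi] at this
  exact absurd this (by decide)

end Facets

end Groth.Agent.RootChLib
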