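import Groth.Agent.RootCh.Basic
import Groth.Prelude.Def_RootCh2

/-! Corners of facets, corresponding coweights, parabolic subsets. -/

noncomputable section

set_option linter.unusedSectionVars false

open Module RootCh
open scoped Classical

namespace Groth.Agent.RootChLib

universe u v w x

variable {ι : Type u} {R : Type v} {M : Type w} {N : Type x}
  [Field R] [LinearOrder R] [IsStrictOrderedRing R]
  [AddCommGroup M] [Module R M] [AddCommGroup N] [Module R N] [Finite ι]
  {P : RootPairing ι R M N} [P.IsRootSystem] [P.IsCrystallographic] [P.IsReduced]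

lemma int_mul_eq_one {c : R} (hc : 0 < c) (z z' : ℤ) (h1 : c = z) (h2 : (1 : R) = z' * c) :
    c = 1 := by
  rw [h1] at hc h2
  have hz : 0 < z := Int.cast_pos.mp hc
  have h3 : z' * z = 1 := by exact_mod_cast h2.symm
  rcases Int.eq_one_or_neg_one_of_mul_eq_one' h3 with ⟨-, h⟩ | ⟨-, h⟩
  · rw [h1, h]; simp
  · omega

/-- The fundamental weights in a closed chamber are the fundamental weights of that chamber. -/
theorem baseCorners_eq (b : P.Base) : baseCorners b = Set.range (fundWeight b) := by
  ext w
  constructor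
  · rintro ⟨⟨b', k', rfl⟩, hw⟩
    obtain ⟨j, hj⟩ : ∃ j : b.support, 0 < P.coroot' j (fundWeight b' k') := by
      by_contra! h
      refine fundWeight_ne_zero b' k' (ext_coroot' b fun j => ?_)
      rw [map_zero]
      exact le_antisymm (h j) (hw j j.2)
    have huniq : ∀ l : b.support, l ≠ j → P.coroot' l (fundWeight b' k') = 0 := by
      intro l hl
      by_contra hne
      have hlpos : 0 < P.coroot' l (fundWeight b' k') := (hw l l.2).lt_of_ne' hne
      let G : RootCh.Facet P := RootCh.Facet.ofVec P (fundWeight b' k')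
      have hbG : b ∈ G.cham := (mem_cham_ofVec _).mpr hw
      have key : ∀ m ∈ posIdx G b,
          fundCoweight b m = P.root' k' (fundCoweight b m) • fundCoweight b' k' := by
        intro m hm
        refine ext_root' b' fun i => ?_
        rw [map_smul, smul_eq_mul, root'_fcw]
        split
        next h => rw [h, mul_one]
        next h =>
          rw [mul_zero]
          refine coeff_eq_zero_of_sgn_zero G hbG ?_ hm
          change sgnVec P _ _ = 0
          rw [sgnVec, coroot'_fw, if_neg h, sign_zero]
      have hjG : j ∈ posIdx G b := by rw [mem_posIdx]; exact sgn_eq_one_iff.mpr hj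
      have hlG : l ∈ posIdx G b := by rw [mem_posIdx]; exact sgn_eq_one_iff.mpr hlpos
      have hj' := key j hjG
      have hl' := key l hlG
      have e1 : P.root' j (fundCoweight b j) = 1 := by rw [root'_fcw, if_pos rfl]
      have e2 : P.root' j (fundCoweight b l) = 0 := by rw [root'_fcw, if_neg (Ne.symm hl)]
      have e3 : P.root' l (fundCoweight b l) = 1 := by rw [root'_fcw, if_pos rfl]
      rw [hj', map_smul, smul_eq_mul] at e1
      rw [hl', map_smul, smul_eq_mul] at e2 e3
      rcases mul_eq_zero.mp e2 with h | h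
      · rw [h, zero_mul] at e3; exact zero_ne_one e3
      · rw [h, mul_zero] at e1; exact zero_ne_one e1
    have hw' : fundWeight b' k' = P.coroot' j (fundWeight b' k') • fundWeight b j := by
      refine ext_coroot' b fun l => ?_
      rw [map_smul, smul_eq_mul, coroot'_fw]
      split
      next h => rw [h, mul_one]
      next h => rw [mul_zero, huniq l h]
    obtain ⟨z, hz⟩ := cocoeff_int b' j k'
    obtain ⟨z', hz'⟩ := cocoeff_int b k' j
    have h1 : P.coroot' k' (fundWeight b' k') = 1 := coroot'_fundWeight_self b' k'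
    rw [hw', map_smul, smul_eq_mul, hz'] at h1
    have hc := int_mul_eq_one hj z z' hz (by rw [mul_comm]; exact h1.symm)
    exact ⟨j, by rw [hw', hc, one_smul]⟩
  · rintro ⟨k, rfl⟩
    exact ⟨⟨b, k, rfl⟩, fundWeight_mem_closedChamber b k⟩

lemma mem_baseCorners (b : P.Base) (k : b.support) : fundWeight b k ∈ baseCorners b := by
  rw [baseCorners_eq]; exact ⟨k, rfl⟩

/-- The coweight corresponding to a fundamental weight is unique. -/
theorem corr_unique {w : M} {y y' : N} (h : Corr P w y) (h' : Corr P w y') : y = y' := by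
  obtain ⟨b, k, rfl, rfl⟩ := h
  obtain ⟨b', k', hw, rfl⟩ := h'
  have e : cw P k • fundCoweight b k = cw P k' • fundCoweight b' k' := by
    rw [← pol_fundWeight, ← pol_fundWeight, hw]
  have hc : 0 < cw P k' / cw P k := div_pos (cw_pos _) (cw_pos _)
  have e' : fundCoweight b k = (cw P k' / cw P k) • fundCoweight b' k' := by
    rw [div_eq_inv_mul, mul_smul, ← e, smul_smul, inv_mul_cancel₀ (cw_pos _).ne', one_smul]
  obtain ⟨z, hz⟩ := coeff_int b k' k
  obtain ⟨z', hz'⟩ := coeff_int b' k k'
  have h1 : P.root' k (fundCoweight b k) = 1 := root'_fundCoweight_self b k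
  have h2 : P.root' k' (fundCoweight b' k') = 1 := root'_fundCoweight_self b' k'
  rw [e', map_smul, smul_eq_mul] at h1 hz
  rw [h2, mul_one] at hz
  rw [hz'] at h1
  rw [e', int_mul_eq_one hc z z' hz (by rw [mul_comm]; exact h1.symm), one_smul]

lemma corr_fundWeight (b : P.Base) (k : b.support) (y : N) :
    Corr P (fundWeight b k) y ↔ y = fundCoweight b k :=
  ⟨fun h => corr_unique h ⟨b, k, rfl, rfl⟩, fun h => ⟨b, k, rfl, h.symm⟩⟩

lemma corr_sign {m : M} {y : N} (h : Corr P m y) (i : ι) :
    SignType.sign (P.root' i y) = sgnVec P m i := by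
  obtain ⟨b, k, rfl, rfl⟩ := h
  rw [sgnVec_fundWeight]

/-! ### facets -/

section Facets

variable (F : RootCh.Facet P)

variable {F} in
lemma mem_closure_of_cham {b : P.Base} (hb : b ∈ F.cham) {x : M} (hx : x ∈ F.closure) :
    x ∈ closedChamber b := by
  intro k hk
  have h1 := (cham_iff F).mp hb k hk
  rw [← sgn_ne_neg_iff]
  rcases hx k with h | h
  · rw [← sgnVec, h]; decide
  · rwa [← sgnVec, h]

lemma exists_cham : ∃ b : P.Base, b ∈ F.cham := by
  obtain ⟨x, hx⟩ := F.exists_sgnVec_eq
  obtain ⟨b, hb⟩ := exists_closedChamber P x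
  refine ⟨b, (cham_iff F).mpr fun k hk => ?_⟩
  rw [← hx, sgnVec, sgn_ne_neg_iff]
  exact hb k hk

/-- The corners of a facet, seen from an adjacent chamber. -/
theorem corners_eq {b : P.Base} (hb : b ∈ F.cham) :
    F.corners = fundWeight b '' (posIdx F b : Set b.support) := by
  ext w
  constructor
  · rintro ⟨hw, hcl⟩
    have : w ∈ baseCorners b := ⟨hw, mem_closure_of_cham hb hcl⟩
    rw [baseCorners_eq] at this
    obtain ⟨k, rfl⟩ := this
    refine ⟨k, ?_, rfl⟩
    rw [Finset.mem_coe, mem_posIdx]
    have h1 : sgnVec P (fundWeight b k) k = 1 := by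
      rw [sgnVec, coroot'_fundWeight_self, sign_one]
    rcases hcl k with h | h
    · rw [h1] at h; exact absurd h (by decide)
    · rw [← h, h1]
  · rintro ⟨k, hk, rfl⟩
    refine ⟨⟨b, k, rfl⟩, ?_⟩
    have key : ∀ i, b.IsPos i →
        sgnVec P (fundWeight b k) i = 0 ∨ sgnVec P (fundWeight b k) i = F.sgn i := by
      intro i hi
      rw [sgnVec_fundWeight]
      rcases (pos_coeff b hi k).eq_or_lt with h | h
      · left; rw [← h, sign_zero]
      · right
        rw [sign_pos h, (sgn_eq_one_iff_coeff F hb hi).mpr ⟨k, hk, h⟩]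
    intro i
    by_cases hi : b.IsPos i
    · exact key i hi
    · have := key _ ((isPos_neg b i).mpr hi)
      rw [sgnVec_neg, Facet.sgn_neg] at this
      simpa using this

lemma fundWeight_mem_corners_iff {b : P.Base} (hb : b ∈ F.cham) (k : b.support) :
    fundWeight b k ∈ F.corners ↔ k ∈ posIdx F b := by
  rw [corners_eq F hb, (fw_injective b).mem_set_image, Finset.mem_coe]

lemma corners_subset_baseCorners {b : P.Base} (hb : b ∈ F.cham) :
    F.corners ⊆ baseCorners b := by
  rw [corners_eq F hb, baseCorners_eq]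
  exact Set.image_subset_range _ _

/-- A vector of a facet expanded on its corners. -/
lemma eq_sum_posIdx {b : P.Base} (hb : b ∈ F.cham) {x : M} (hx : x ∈ F.carrier) :
    x = ∑ k ∈ posIdx F b, P.coroot' k x • fundWeight b k := by
  conv_lhs => rw [sum_coroot'_smul_fw b x]
  refine (Finset.sum_subset (Finset.subset_univ _) fun k _ hk => ?_).symm
  rw [coroot'_eq_zero_of_mem_carrier F hb hx hk, zero_smul]

lemma mem_carrier_iff_simple {b : P.Base} (hb : b ∈ F.cham) {x : M} :
    x ∈ F.carrier ↔ ∀ k : b.support,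
      (k ∈ posIdx F b → 0 < P.coroot' k x) ∧ (k ∉ posIdx F b → P.coroot' k x = 0) := by
  refine ⟨fun hx k => ⟨coroot'_pos_of_mem_carrier F hx, coroot'_eq_zero_of_mem_carrier F hb hx⟩,
    fun h => mem_carrier_of_simple F hb fun k => ?_⟩
  by_cases hk : k ∈ posIdx F b
  · rw [sgnVec, sign_pos ((h k).1 hk), (mem_posIdx F).mp hk]
  · rw [sgnVec, (h k).2 hk, sign_zero, sgn_eq_zero_of_notMem F hb hk]

theorem span_carrier : Submodule.span R F.carrier = Submodule.span R F.corners := by
  obtain ⟨b, hb⟩ := exists_cham F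
  apply le_antisymm
  · rw [Submodule.span_le]
    intro x hx
    rw [eq_sum_posIdx F hb hx]
    exact Submodule.sum_mem _ fun k hk => Submodule.smul_mem _ _
      (Submodule.subset_span ((fundWeight_mem_corners_iff F hb k).mpr hk))
  · rw [Submodule.span_le, corners_eq F hb]
    rintro _ ⟨k, hk, rfl⟩
    obtain ⟨x, hx⟩ := F.exists_sgnVec_eq
    have hx' : x + fundWeight b k ∈ F.carrier := by
      rw [mem_carrier_iff_simple F hb]
      intro l
      have := (mem_carrier_iff_simple F hb).mp hx l
      rw [map_add, coroot'_fw]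
      refine ⟨fun hl => ?_, fun hl => ?_⟩
      · have := this.1 hl
        split <;> linarith
      · rw [if_neg (fun e => hl (by rw [e]; exact hk)), this.2 hl, add_zero]
    simpa using Submodule.sub_mem _ (Submodule.subset_span hx') (Submodule.subset_span (s := F.carrier) hx)

theorem linearIndepOn_corners : LinearIndepOn R (fun m : M => m) F.corners := by
  obtain ⟨b, hb⟩ := exists_cham F
  rw [corners_eq F hb]
  exact ((fw_linearIndependent b).linearIndepOn (posIdx F b : Set b.support)).id_image

/-- Facets with the same corners are equal. -/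
theorem eq_of_corners_eq {G : RootCh.Facet P} (h : F.corners = G.corners) : F = G := by
  obtain ⟨b, hb⟩ := exists_cham F
  obtain ⟨b', hb'⟩ := exists_cham G
  have hG : ∑ k ∈ posIdx G b', fundWeight b' k ∈ G.carrier := by
    rw [mem_carrier_iff_simple G hb']
    intro k
    simp only [map_sum, coroot'_fw, Finset.sum_ite_eq]
    exact ⟨fun h => by rw [if_pos h]; exact one_pos, fun h => by rw [if_neg h]⟩
  have hF : ∑ k ∈ posIdx F b, fundWeight b k ∈ F.carrier := by
    rw [mem_carrier_iff_simple F hb]
    intro k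
    simp only [map_sum, coroot'_fw, Finset.sum_ite_eq]
    exact ⟨fun h => by rw [if_pos h]; exact one_pos, fun h => by rw [if_neg h]⟩
  have e1 : ∑ k ∈ posIdx F b, fundWeight b k = ∑ w ∈ (Set.toFinite
      (fundWeight b '' (posIdx F b : Set b.support))).toFinset, w := by
    rw [← Finset.sum_image (f := fun w => w) fun _ _ _ _ e => fw_injective b e]
    congr 1; ext; simp
  have e2 : ∑ k ∈ posIdx G b', fundWeight b' k = ∑ w ∈ (Set.toFinite
      (fundWeight b' '' (posIdx G b' : Set b'.support))).toFinset, w := by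
    rw [← Finset.sum_image (f := fun w => w) fun _ _ _ _ e => fw_injective b' e]
    congr 1; ext; simp
  have e : ∑ k ∈ posIdx F b, fundWeight b k = ∑ k ∈ posIdx G b', fundWeight b' k := by
    rw [e1, e2]
    congr 1; ext
    simp only [Set.Finite.mem_toFinset, ← corners_eq F hb, ← corners_eq G hb', h]
  rw [e] at hF
  ext1
  rw [← (mem_carrier_iff F).mp hF, (mem_carrier_iff G).mp hG]

/-- The facet spanned by a set of corners of a chamber. -/
def facetOf (b : P.Base) (J : Finset b.support) : RootCh.Facet P :=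
  RootCh.Facet.ofVec P (∑ k ∈ J, fundWeight b k)

lemma mem_cham_facetOf (b : P.Base) (J : Finset b.support) : b ∈ (facetOf b J).cham := by
  rw [facetOf, mem_cham_ofVec]
  intro i hi
  change 0 ≤ P.coroot' (⟨i, hi⟩ : b.support) _
  rw [map_sum]
  exact Finset.sum_nonneg fun j _ => by rw [coroot'_fw]; split <;> simp

lemma posIdx_facetOf (b : P.Base) (J : Finset b.support) : posIdx (facetOf b J) b = J := by
  ext k
  rw [mem_posIdx]
  change sgnVec P _ _ = 1 ↔ _
  rw [sgnVec, sgn_eq_one_iff]
  simp only [map_sum, coroot'_fw, Finset.sum_ite_eq]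
  split <;> simp_all

lemma corners_facetOf (b : P.Base) (J : Finset b.support) :
    (facetOf b J).corners = fundWeight b '' (J : Set b.support) := by
  rw [corners_eq _ (mem_cham_facetOf b J), posIdx_facetOf]

theorem le_iff_parab (F G : RootCh.Facet P) : F ≤ G ↔ F.parab ⊆ G.parab := by
  constructor
  · intro h i hi hGi
    rcases h i with h0 | h1
    · rw [h0] at hGi; exact absurd hGi (by decide)
    · exact hi (by rw [← h1]; exact hGi)
  · intro h i
    rcases hg : G.sgn i with _ | _ | _
    · exact Or.inl rfl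
    · refine Or.inr (Eq.symm ?_)
      by_contra hc
      exact h (a := i) hc hg
    · refine Or.inr (Eq.symm ?_)
      have hn : G.sgn (P.reflectionPerm i i) = -1 := by rw [Facet.sgn_neg, hg]; rfl
      have hc : F.sgn (P.reflectionPerm i i) = -1 := by
        by_contra hc; exact h (a := P.reflectionPerm i i) hc hn
      rw [Facet.sgn_neg] at hc
      exact neg_injective hc

theorem eq_of_parab_eq {G : RootCh.Facet P} (h : F.parab = G.parab) : F = G :=
  le_antisymm ((le_iff_parab F G).mpr h.subset) ((le_iff_parab G F).mpr h.symm.subset)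

lemma parab_isParabolic : IsParabolicSubset P F.parab := by
  obtain ⟨x, hx⟩ := F.exists_sgnVec_eq
  constructor
  · intro i j k hi hj hk
    have hnn : ∀ l, l ∈ F.parab ↔ 0 ≤ P.root' l (pol P x) := fun l => by
      change F.sgn l ≠ -1 ↔ _
      rw [← hx, ← cosgnVec_pol, cosgnVec, sgn_ne_neg_iff]
    rw [hnn] at hi hj ⊢
    change 0 ≤ P.toLinearMap (P.root k) _
    rw [hk, map_add, LinearMap.add_apply]
    exact add_nonneg hi hj
  · intro i
    by_cases h : F.sgn i = -1
    · right
      change F.sgn _ ≠ -1
      rw [Facet.sgn_neg, h]; decide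
    · exact Or.inl h

theorem corners_eq_parab : F.corners = {m : M | m ∈ fundWeights P ∧
    ∀ y : N, Corr P m y → ∀ i ∈ F.parab, 0 ≤ P.root' i y} := by
  ext m
  constructor
  · rintro ⟨hm, hcl⟩
    refine ⟨hm, fun y hy i (hi : F.sgn i ≠ -1) => ?_⟩
    rw [← sgn_ne_neg_iff, corr_sign hy]
    rcases hcl i with h | h <;> rw [h]
    · decide
    · exact hi
  · rintro ⟨hm, h⟩
    obtain ⟨b, k, rfl⟩ := id hm
    have key : ∀ i, F.sgn i ≠ -1 → sgnVec P (fundWeight b k) i ≠ -1 := fun i hi => by
      rw [sgnVec_fundWeight, sgn_ne_neg_iff]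
      exact h _ ⟨b, k, rfl, rfl⟩ i hi
    refine ⟨hm, fun i => ?_⟩
    have h1 := key i
    have h2 := key (P.reflectionPerm i i)
    rw [sgnVec_neg, Facet.sgn_neg] at h2
    revert h1 h2
    cases F.sgn i <;> cases sgnVec P (fundWeight b k) i <;> decide

/-- Parabolic subsets come from facets. -/
theorem exists_parab_eq {S : Set ι} (hS : IsParabolicSubset P S) :
    ∃ F : RootCh.Facet P, F.parab = S := by
  obtain ⟨hadd, hcov⟩ := hS
  let c : P.Base → ℕ := fun b => {i | b.IsPos i ∧ i ∈ S}.ncard
  obtain ⟨b, hmax⟩ : ∃ b : P.Base, ∀ b', c b' ≤ c b := by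
    obtain ⟨b0⟩ := P.nonempty_base
    have hbdd : BddAbove (Set.range c) := ⟨Nat.card ι, by
      rintro _ ⟨b, rfl⟩
      exact (Set.ncard_le_ncard (Set.subset_univ _)).trans_eq (Set.ncard_univ ι)⟩
    obtain ⟨b, hb⟩ := Nat.sSup_mem (Set.range_nonempty_iff_nonempty.mpr ⟨b0⟩) hbdd
    exact ⟨b, fun b' => hb ▸ le_csSup hbdd ⟨b', rfl⟩⟩
  have hsimp : ∀ k : b.support, (k : ι) ∈ S := by
    intro k
    by_contra hk
    have hn : P.reflectionPerm k k ∈ S := (hcov k).resolve_left hk
    refine (hmax (sb b k)).not_gt (Set.ncard_lt_ncard ⟨fun i hi => ?_, fun h => ?_⟩ (Set.toFinite _))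
    · exact ⟨(isPos_sb_iff b k i).mpr (Or.inl ⟨hi.1, fun e => hk (e ▸ hi.2)⟩), hi.2⟩
    · exact (isPos_neg b k).mp (h ⟨(isPos_sb_iff b k _).mpr (Or.inr rfl), hn⟩).1
        (RootPairing.Base.isPos_of_mem_support k.2)
  have hposS : ∀ i, b.IsPos i → i ∈ S := fun i hi =>
    hi.induction_on_add (fun j hj => hsimp ⟨j, hj⟩) fun p q r hr hp hq =>
      hadd p q r hp (hsimp ⟨q, hq⟩) hr
  let J : Finset b.support := Finset.univ.filter fun k => P.reflectionPerm k k ∉ S
  refine ⟨facetOf b J, ?_⟩
  have hb := mem_cham_facetOf b J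
  have key : ∀ i, b.IsPos i → (P.reflectionPerm i i ∈ S ↔
      ∀ k : b.support, 0 < P.root' i (fundCoweight b k) → P.reflectionPerm k k ∈ S) := by
    intro i hi
    refine hi.induction_on_add (p := fun i => b.IsPos i → (P.reflectionPerm i i ∈ S ↔
      ∀ k : b.support, 0 < P.root' i (fundCoweight b k) → P.reflectionPerm k k ∈ S))
      (fun j hj _ => ?_) (fun p q r hr ih hq hrpos => ?_) hi
    · refine ⟨fun h k hk => ?_, fun h => h ⟨j, hj⟩ ?_⟩
      · have h0 : P.root' ((⟨j, hj⟩ : b.support) : ι) (fundCoweight b k) = _ := root'_fcw b k ⟨j, hj⟩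
        rw [h0] at hk
        split at hk
        next e => rw [← e]; exact h
        next => exact absurd hk (lt_irrefl _)
      · change 0 < P.root' ((⟨j, hj⟩ : b.support) : ι) _
        rw [root'_fcw, if_pos rfl]; exact one_pos
    · have hp : b.IsPos p := RootPairing.Base.IsPos.sub hrpos hq (by rw [hr, add_sub_cancel_right])
      have hadd' : ∀ y : N, P.root' r y = P.root' p y + P.root' q y := fun y => by
        change P.toLinearMap (P.root r) y = _
        rw [hr, map_add, LinearMap.add_apply]
      constructor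
      · intro hrn k hk
        have hpn : P.reflectionPerm p p ∈ S :=
          hadd _ q _ hrn (hsimp ⟨q, hq⟩) (by rw [root_neg', root_neg', hr]; abel)
        have hqn : P.reflectionPerm q q ∈ S :=
          hadd _ p _ hrn (hposS p hp) (by rw [root_neg', root_neg', hr]; abel)
        rw [hadd'] at hk
        by_cases hkp : 0 < P.root' p (fundCoweight b k)
        · exact (ih hp).mp hpn k hkp
        · have h0 : P.root' q (fundCoweight b k) = _ := root'_fcw b k ⟨q, hq⟩
          rw [h0] at hk
          split at hk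
          next e => rw [← e]; exact hqn
          next => exact absurd (by simpa using hk) hkp
      · intro h
        have hq1 : P.root' q (fundCoweight b ⟨q, hq⟩) = 1 := root'_fundCoweight_self b ⟨q, hq⟩
        refine hadd _ _ _ ((ih hp).mpr fun k hk => h k ?_) (h ⟨q, hq⟩ ?_)
          (by rw [root_neg', root_neg', root_neg', hr]; abel)
        · rw [hadd']
          have := pos_coeff b (RootPairing.Base.isPos_of_mem_support hq) k
          linarith
        · rw [hadd', hq1]
          have := pos_coeff b hp ⟨q, hq⟩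
          linarith
  ext i
  by_cases hi : b.IsPos i
  · exact iff_of_true (sgn_nonneg_of_isPos _ hb hi) (hposS i hi)
  · have hni := (isPos_neg b i).mpr hi
    have := key _ hni
    have hnn : P.reflectionPerm (P.reflectionPerm i i) (P.reflectionPerm i i) = i := by
      letI := P.indexNeg
      exact neg_neg i
    rw [hnn] at this
    rw [this]
    change (facetOf b J).sgn i ≠ -1 ↔ _
    have h2 := sgn_eq_one_iff_coeff (facetOf b J) hb hni
    rw [Facet.sgn_neg, posIdx_facetOf, neg_eq_iff_eq_neg] at h2
    rw [Ne, h2]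
    simp only [J, Finset.mem_filter, Finset.mem_univ, true_and, not_exists, not_and]
    exact ⟨fun h k hk => by_contra fun hc => h k hc hk, fun h k hn hk => hn (h k hk)⟩

end Facets

end Groth.Agent.RootChLib
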