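import Groth.Agent.RootCh.Corners
import Mathlib.Analysis.Convex.Combination
import Mathlib.LinearAlgebra.FiniteDimensional.Lemmas

/-! Complementary convex solids, degrees, the point of a facet, special facets. -/

noncomputable section

set_option linter.unusedSectionVars false

open Module RootCh
open scoped Classical

namespace Groth.Agent.RootChLib

universe u v w x

/-- Farkas' lemma over a linearly ordered field. -/
theorem farkas {R : Type*} [Field R] [LinearOrder R] [IsStrictOrderedRing R] {W : Type*}
    [AddCommGroup W] [Module R W] :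
    ∀ (n : ℕ) (v : Fin n → W) (c : W),
      (∃ l : Fin n → R, (∀ i, 0 ≤ l i) ∧ ∑ i, l i • v i = c) ∨
        ∃ f : W →ₗ[R] R, (∀ i, 0 ≤ f (v i)) ∧ f c < 0 := by
  intro n
  induction n with
  | zero =>
    intro v c
    rcases eq_or_ne c 0 with rfl | hc
    · exact Or.inl ⟨0, fun i => i.elim0, by simp⟩
    · obtain ⟨f, hf⟩ : ∃ f : W →ₗ[R] R, f c ≠ 0 := by
        by_contra! h
        exact hc ((Module.forall_dual_apply_eq_zero_iff R c).mp h)
      exact Or.inr ⟨-(f c)⁻¹ • f, fun i => i.elim0, by simp [hf]⟩
  | succ n ih =>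
    intro v c
    rcases ih (fun i => v i.castSucc) c with ⟨l, hl, hs⟩ | ⟨f, hf, hfc⟩
    · refine Or.inl ⟨Fin.snoc l 0, fun i => ?_, ?_⟩
      · induction i using Fin.lastCases <;> simp [hl]
      · simp [Fin.sum_univ_castSucc, hs]
    · set a := v (Fin.last n) with ha
      rcases le_or_gt 0 (f a) with h | h
      · refine Or.inr ⟨f, fun i => ?_, hfc⟩
        induction i using Fin.lastCases with
        | last => exact h
        | cast i => exact hf i
      · let π : W →ₗ[R] W := LinearMap.id - ((f a)⁻¹ • f).smulRight a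
        have hπ : ∀ x, π x = x - ((f a)⁻¹ * f x) • a := fun x => rfl
        rcases ih (fun i => π (v i.castSucc)) (π c) with ⟨l, hl, hs⟩ | ⟨g, hg, hgc⟩
        · have hs' : π (∑ i, l i • v i.castSucc) = π c := by rw [map_sum]; simpa using hs
          refine Or.inl ⟨Fin.snoc l ((f a)⁻¹ * (f c - ∑ i, l i * f (v i.castSucc))), fun i => ?_, ?_⟩
          · induction i using Fin.lastCases with
            | last =>
              rw [Fin.snoc_last]
              refine mul_nonneg_of_nonpos_of_nonpos (inv_nonpos.mpr h.le) ?_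
              have : 0 ≤ ∑ i, l i * f (v i.castSucc) :=
                Finset.sum_nonneg fun i _ => mul_nonneg (hl i) (hf i)
              linarith
            | cast i => simp [hl]
          · rw [hπ, hπ, map_sum] at hs'
            simp only [map_smul, smul_eq_mul] at hs'
            simp only [Fin.sum_univ_castSucc, Fin.snoc_castSucc, Fin.snoc_last, ← ha,
              mul_sub, sub_smul]
            rw [← add_sub_assoc, add_sub_right_comm, hs', sub_add_cancel]
        · refine Or.inr ⟨g.comp π, fun i => ?_, hgc⟩
          induction i using Fin.lastCases with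
          | last => simp [← ha, hπ, h.ne]
          | cast i => exact hg i

variable {ι : Type u} {R : Type v} {M : Type w} {N : Type x}
  [Field R] [LinearOrder R] [IsStrictOrderedRing R]
  [AddCommGroup M] [Module R M] [AddCommGroup N] [Module R N] [Finite ι]
  {P : RootPairing ι R M N} [P.IsRootSystem] [P.IsCrystallographic] [P.IsReduced]

lemma tlm_coreflection (k : ι) (x : M) :
    P.reflection k x = x - P.coroot' k x • P.root k := P.reflection_apply k x

lemma finite_base : Finite P.Base :=
  Finite.of_injective (fun b : P.Base => b.support) fun b b' h => by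
    cases b; cases b'; cases h; rfl

lemma finite_facet : Finite (RootCh.Facet P) :=
  Finite.of_injective (fun F : RootCh.Facet P => F.sgn) fun _ _ h => RootCh.Facet.ext h

/-- If a sum of roots is taken over a set stable by the `k`-th reflection it is orthogonal to the
`k`-th coroot. -/
lemma coroot'_sum_stable (k : ι) (S : Finset ι) (hS : ∀ i ∈ S, P.reflectionPerm k i ∈ S) :
    P.coroot' k (∑ i ∈ S, P.root i) = 0 := by
  have h : P.reflection k (∑ i ∈ S, P.root i) = ∑ i ∈ S, P.root i := by
    rw [map_sum]
    refine Finset.sum_nbij' (P.reflectionPerm k) (P.reflectionPerm k) hS hS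
      (fun i _ => P.reflectionPerm_self k i) (fun i _ => P.reflectionPerm_self k i) fun i _ => ?_
    rw [P.root_reflectionPerm]
  rw [tlm_coreflection, sub_eq_self, smul_eq_zero] at h
  exact h.resolve_right (P.ne_zero k)

lemma sgnVec_perm_of_coroot'_eq_zero {x : M} {k : ι} (h : P.coroot' k x = 0) (i : ι) :
    sgnVec P x (P.reflectionPerm k i) = sgnVec P x i := by
  rw [sgnVec, coroot'_perm, tlm_coreflection, h, zero_smul, sub_zero]
  rfl

lemma Facet.sgn_perm (F : RootCh.Facet P) {k : ι} (h : F.sgn k = 0) (i : ι) :
    F.sgn (P.reflectionPerm k i) = F.sgn i := by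
  obtain ⟨x, hx⟩ := F.exists_sgnVec_eq
  rw [← hx, sgnVec, sign_eq_zero_iff] at h
  rw [← hx, sgnVec_perm_of_coroot'_eq_zero h]

/-- A vector orthogonal to the simple roots vanishing on a facet is in the span of its corners. -/
lemma mem_span_corners (F : RootCh.Facet P) {b : P.Base} (hb : b ∈ F.cham) {x : M}
    (h : ∀ k : b.support, k ∉ posIdx F b → P.coroot' k x = 0) :
    x ∈ Submodule.span R F.corners := by
  rw [sum_coroot'_smul_fw b x]
  refine Submodule.sum_mem _ fun k _ => ?_
  by_cases hk : k ∈ posIdx F b
  · exact Submodule.smul_mem _ _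
      (Submodule.subset_span ((fundWeight_mem_corners_iff F hb k).mpr hk))
  · rw [h k hk, zero_smul]
    exact Submodule.zero_mem _

lemma coroot'_of_mem_span_corners (F : RootCh.Facet P) {b : P.Base} (hb : b ∈ F.cham) {x : M}
    (hx : x ∈ Submodule.span R F.corners) {k : b.support} (hk : k ∉ posIdx F b) :
    P.coroot' k x = 0 := by
  have : F.corners ⊆ LinearMap.ker (P.coroot' (k : ι)) := by
    rw [corners_eq F hb]
    rintro _ ⟨l, hl, rfl⟩
    rw [SetLike.mem_coe, LinearMap.mem_ker, coroot'_fw, if_neg fun e => hk (by rw [e]; exact hl)]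
  exact Submodule.span_le.mpr this hx

lemma span_dualCarrier (F : RootCh.Facet P) :
    Submodule.span R F.dualCarrier = (Submodule.span R F.corners).map (pol P).toLinearMap := by
  rw [← span_carrier, Submodule.map_span]
  congr 1
  ext y
  constructor
  · intro hy
    refine ⟨(pol P).symm y, ?_, (pol P).apply_symm_apply y⟩
    change sgnVec P _ = F.sgn
    rw [← cosgnVec_pol, LinearEquiv.apply_symm_apply]
    exact hy
  · rintro ⟨x, hx, rfl⟩
    change cosgnVec P (pol P x) = F.sgn
    rw [cosgnVec_pol]
    exact hx

/-- Membership in the dual carrier via the simple roots of an adjacent chamber. -/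
lemma mem_dualCarrier_iff (F : RootCh.Facet P) {b : P.Base} (hb : b ∈ F.cham) {y : N}
    (hy : y ∈ Submodule.span R F.dualCarrier) :
    y ∈ F.dualCarrier ↔ ∀ k ∈ posIdx F b, 0 < P.root' k y := by
  rw [span_dualCarrier] at hy
  obtain ⟨x, hx, rfl⟩ := hy
  have : pol P x ∈ F.dualCarrier ↔ x ∈ F.carrier := by
    change cosgnVec P (pol P x) = _ ↔ sgnVec P x = _
    rw [cosgnVec_pol]
  rw [LinearEquiv.coe_coe, this, mem_carrier_iff_simple F hb]
  simp only [root'_pol, mul_pos_iff_of_pos_left (cw_pos _)]
  exact ⟨fun h k hk => (h k).1 hk, fun h k =>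
    ⟨h k, coroot'_of_mem_span_corners F hb hx⟩⟩

section CCS

variable {d : P.Base → N} (hd : IsCCS d)
include hd

lemma pair_eq_of_mem_span (F : RootCh.Facet P) {b b' : P.Base} (hb : b ∈ F.cham) (hb' : b' ∈ F.cham)
    {x : M} (hx : x ∈ Submodule.span R F.corners) :
    P.toLinearMap x (d b) = P.toLinearMap x (d b') := by
  induction hx using Submodule.span_induction with
  | mem w hw =>
    exact hd.corner_eq b b' w (corners_subset_baseCorners F hb hw)
      (corners_subset_baseCorners F hb' hw)
  | zero => simp
  | add x y _ _ h1 h2 => simp [h1, h2]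
  | smul a x _ h => simp [h]

/-- Crossing a wall moves `d` along the simple coroot. -/
lemma exists_wall (b : P.Base) (k : b.support) :
    ∃ c : R, 0 ≤ c ∧ d (sb b k) = d b + c • P.coroot k := by
  set b' := sb b k with hb'
  have hfix : ∀ j : b.support, j ≠ k →
      fundWeight b' (sbIdx b k j) = fundWeight b j := by
    intro j hj
    change fundWeight (sb b k) (sbIdx b k j) = _
    rw [fundWeight_sb, tlm_coreflection, coroot'_fw, if_neg (Ne.symm hj), zero_smul, sub_zero]
  have hmem : ∀ j : b.support, j ≠ k → fundWeight b j ∈ baseCorners b' := fun j hj => by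
    rw [← hfix j hj]; exact mem_baseCorners _ _
  have hinter : baseCorners b ∩ baseCorners b' =
      fundWeight b '' ((Finset.univ.erase k : Finset b.support) : Set b.support) := by
    ext w
    constructor
    · rintro ⟨h1, h2⟩
      rw [baseCorners_eq] at h1
      obtain ⟨j, rfl⟩ := h1
      refine ⟨j, ?_, rfl⟩
      rw [Finset.mem_coe, Finset.mem_erase]
      refine ⟨fun e => ?_, Finset.mem_univ j⟩
      have h3 := h2.2 _ (sbIdx b k k).2
      change 0 ≤ P.coroot' (P.reflectionPerm k k) _ at h3
      rw [coroot'_neg, e, coroot'_fundWeight_self] at h3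
      linarith
    · rintro ⟨j, hj, rfl⟩
      exact ⟨mem_baseCorners b j, hmem j (Finset.mem_erase.mp hj).1⟩
  have hcard : (baseCorners b ∩ baseCorners b').ncard + 1 = b.support.card := by
    rw [hinter, Set.ncard_image_of_injective _ (fw_injective b), Set.ncard_coe_finset,
      Finset.card_erase_add_one (Finset.mem_univ k), Finset.card_univ, Fintype.card_coe]
  have huniq : ∀ j : ι, (b.IsPos j ∧ ¬ b'.IsPos j) ↔ j = k := by
    intro j
    rw [hb', isPos_sb_iff]
    constructor
    · rintro ⟨h1, h2⟩
      by_contra hne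
      exact h2 (Or.inl ⟨h1, hne⟩)
    · rintro rfl
      refine ⟨RootPairing.Base.isPos_of_mem_support k.2, ?_⟩
      rintro (⟨-, h⟩ | h)
      · exact h rfl
      · have := (isPos_neg b k).mp
        rw [← h] at this
        exact this (RootPairing.Base.isPos_of_mem_support k.2)
          (RootPairing.Base.isPos_of_mem_support k.2)
  have hwall := hd.wall_le b b' k hcard huniq
  set c := P.toLinearMap (fundWeight b k) (d b' - d b) with hc
  have heq : d b' - d b = c • P.coroot k := by
    refine P.flip.toPerfPair.injective (LinearMap.ext fun x => ?_)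
    change P.toLinearMap x _ = P.toLinearMap x _
    conv_lhs => rw [sum_coroot'_smul_fw b x]
    rw [map_sum, LinearMap.coe_sum, Finset.sum_apply, Finset.sum_eq_single_of_mem k (Finset.mem_univ k)]
    · rw [map_smul, LinearMap.smul_apply, map_smul, ← hc, smul_eq_mul, smul_eq_mul, mul_comm]
      rfl
    · intro j _ hj
      rw [map_smul, LinearMap.smul_apply, map_sub,
        hd.corner_eq b' b _ (hmem j hj) (mem_baseCorners b j), sub_self, smul_zero]
  refine ⟨c, ?_, by rw [← heq, add_sub_cancel]⟩
  have h2 : P.root' k (d b' - d b) = c * 2 := by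
    rw [heq, map_smul, smul_eq_mul]
    congr 1
    exact P.root_coroot_two k
  rw [map_sub] at h2
  linarith

/-- The support function of the solid. -/
theorem le_pair {x : M} {b0 : P.Base} (hx : x ∈ closedChamber b0) (b : P.Base) :
    P.toLinearMap x (d b0) ≤ P.toLinearMap x (d b) := by
  refine chamber_induction x (p := fun b => P.toLinearMap x (d b0) ≤ P.toLinearMap x (d b))
    (fun b hb => le_of_eq ?_) (fun b k hk ih => ih.trans ?_) b
  · refine pair_eq_of_mem_span hd (RootCh.Facet.ofVec P x) ((mem_cham_ofVec x).mpr hx)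
      ((mem_cham_ofVec x).mpr hb) ?_
    rw [← span_carrier]
    exact Submodule.subset_span rfl
  · obtain ⟨c, hc, he⟩ := exists_wall hd b k
    rw [he, map_add, map_smul, smul_eq_mul]
    have : c * P.toLinearMap x (P.coroot k) ≤ 0 := mul_nonpos_of_nonneg_of_nonpos hc hk.le
    linarith

lemma solid_le {y : N} (hy : y ∈ solid d) {x : M} {b0 : P.Base} (hx : x ∈ closedChamber b0) :
    P.toLinearMap x (d b0) ≤ P.toLinearMap x y := by
  have : Convex R {z : N | P.toLinearMap x (d b0) ≤ P.toLinearMap x z} := by
    exact convex_halfSpace_ge (P.toLinearMap x).isLinear _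
  exact convexHull_min (by rintro _ ⟨b, rfl⟩; exact le_pair hd hx b) this hy

lemma mem_halfClosed_of_mem_solid {y : N} (hy : y ∈ solid d) (w : M) : y ∈ halfClosed d w :=
  fun _ hw => solid_le hd hy hw.2

lemma dualSolid_subset_solid (F : RootCh.Facet P) : dualSolid d F ⊆ solid d :=
  convexHull_mono (Set.image_subset_range _ _)

lemma dualSolid_pair (F : RootCh.Facet P) {b : P.Base} (hb : b ∈ F.cham) {y : N}
    (hy : y ∈ dualSolid d F) {x : M} (hx : x ∈ Submodule.span R F.corners) :
    P.toLinearMap x y = P.toLinearMap x (d b) := by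
  have : Convex R {z : N | P.toLinearMap x z = P.toLinearMap x (d b)} :=
    convex_hyperplane (P.toLinearMap x).isLinear _
  exact convexHull_min (by rintro _ ⟨b', hb', rfl⟩; exact pair_eq_of_mem_span hd F hb' hb hx) this hy

lemma mem_hyper_iff {b : P.Base} {w : M} (hw : w ∈ baseCorners b) {y : N} :
    y ∈ hyper d w ↔ P.toLinearMap w y = P.toLinearMap w (d b) :=
  ⟨fun h => h b hw, fun h b' hb' => h.trans (hd.corner_eq b b' w hw hb')⟩

lemma mem_halfClosed_iff {b : P.Base} {w : M} (hw : w ∈ baseCorners b) {y : N} :
    y ∈ halfClosed d w ↔ P.toLinearMap w (d b) ≤ P.toLinearMap w y :=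
  ⟨fun h => h b hw, fun h b' hb' => (hd.corner_eq b' b w hb' hw).trans_le h⟩

lemma pair_of_mem_hyper (F : RootCh.Facet P) {b : P.Base} (hb : b ∈ F.cham) {y : N}
    (hy : ∀ w ∈ F.corners, y ∈ hyper d w) {x : M} (hx : x ∈ Submodule.span R F.corners) :
    P.toLinearMap x y = P.toLinearMap x (d b) := by
  induction hx using Submodule.span_induction with
  | mem w hw => exact hy w hw b (corners_subset_baseCorners F hb hw)
  | zero => simp
  | add x y _ _ h1 h2 => simp [h1, h2]
  | smul a x _ h => simp [h]

/-- The dual solid of a facet is cut out by hyperplanes and half spaces. -/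
theorem dualSolid_eq (F : RootCh.Facet P) :
    dualSolid d F = (⋂ m ∈ F.corners, hyper d m) ∩ ⋂ m ∈ F.corners', halfClosed d m := by
  refine Set.Subset.antisymm (fun y hy => ⟨?_, ?_⟩) fun y hy => ?_
  · simp only [Set.mem_iInter]
    intro w hw b hwb
    obtain ⟨b0, hb0⟩ := exists_cham F
    rw [dualSolid_pair hd F hb0 hy (Submodule.subset_span hw)]
    exact hd.corner_eq _ _ w (corners_subset_baseCorners F hb0 hw) hwb
  · simp only [Set.mem_iInter]
    intro w _
    exact mem_halfClosed_of_mem_solid hd (dualSolid_subset_solid hd F hy) w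
  · obtain ⟨hy1, hy2⟩ := hy
    simp only [Set.mem_iInter] at hy1 hy2
    by_contra hnot
    have := finite_base (P := P)
    have : Fintype F.cham := Fintype.ofFinite _
    let e := Fintype.equivFin F.cham
    rcases farkas (R := R) _ (fun i => ((d (e.symm i : P.Base), (1 : R)) : N × R)) (y, 1) with
      ⟨l, hl, hs⟩ | ⟨f, hf, hfy⟩
    · refine hnot ?_
      have hs1 := congrArg Prod.fst hs
      have hs2 := congrArg Prod.snd hs
      simp only [Prod.fst_sum, Prod.snd_sum, Prod.smul_fst, Prod.smul_snd, smul_eq_mul,
        mul_one] at hs1 hs2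
      rw [← hs1]
      exact (convex_convexHull R _).sum_mem (fun i _ => hl i) hs2
        fun i _ => subset_convexHull R _ ⟨_, (e.symm i).2, rfl⟩
    · set x : M := P.toPerfPair.symm (f.comp (LinearMap.inl R N R)) with hx
      have hxz : ∀ z : N, P.toLinearMap x z + f (0, 1) = f (z, 1) := by
        intro z
        rw [hx, LinearMap.apply_symm_toPerfPair_self]
        change f (z, 0) + f (0, 1) = _
        rw [← map_add, Prod.mk_add_mk, add_zero, zero_add]
      have hf' : ∀ b ∈ F.cham, P.toLinearMap x y < P.toLinearMap x (d b) := by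
        intro b hb
        have h1 := hf (e ⟨b, hb⟩)
        rw [Equiv.symm_apply_apply, ← hxz] at h1
        rw [← hxz] at hfy
        linarith
      obtain ⟨x0, hx0⟩ := F.exists_sgnVec_eq
      have : Fintype ι := Fintype.ofFinite ι
      obtain ⟨t, ht0, ht⟩ : ∃ t : R, 0 < t ∧
          ∀ i, 0 < P.coroot' i x0 → 0 < P.coroot' i (x + t • x0) := by
        refine ⟨1 + ∑ i, |P.coroot' i x| / |P.coroot' i x0|, by positivity, fun i hi => ?_⟩
        rw [map_add, map_smul, smul_eq_mul]
        have h1 : |P.coroot' i x| / |P.coroot' i x0| ≤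
            ∑ j, |P.coroot' j x| / |P.coroot' j x0| :=
          Finset.single_le_sum (f := fun j => |P.coroot' j x| / |P.coroot' j x0|)
            (fun j _ => by positivity) (Finset.mem_univ i)
        rw [abs_of_pos hi, div_le_iff₀ hi] at h1
        simp only [add_mul, one_mul] at *
        have h2 := neg_abs_le (P.coroot' i x)
        nlinarith
      obtain ⟨b, hb⟩ := exists_closedChamber P (x + t • x0)
      have hbF : b ∈ F.cham := by
        rw [cham_iff]
        intro k hk hc
        have hn : 0 < P.coroot' (P.reflectionPerm k k) x0 := by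
          rw [coroot'_neg, neg_pos, ← sgn_eq_neg_iff]
          rw [← hx0] at hc
          exact hc
        have h1 := ht _ hn
        rw [coroot'_neg] at h1
        have h2 : 0 ≤ P.coroot' k (x + t • x0) := hb k hk
        linarith
      have h1 : P.toLinearMap (x + t • x0) (d b) ≤ P.toLinearMap (x + t • x0) y := by
        rw [sum_coroot'_smul_fw b (x + t • x0)]
        simp only [map_sum, map_smul, LinearMap.coe_sum, Finset.sum_apply, LinearMap.smul_apply,
          smul_eq_mul]
        refine Finset.sum_le_sum fun k _ => mul_le_mul_of_nonneg_left ?_ (hb k k.2)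
        exact hy2 _ (Set.mem_biUnion hbF (mem_baseCorners b k)) b (mem_baseCorners b k)
      have h0 := pair_of_mem_hyper hd F hbF hy1
        (x := x0) (by rw [← span_carrier]; exact Submodule.subset_span hx0)
      simp only [map_add, map_smul, LinearMap.add_apply, LinearMap.smul_apply, smul_eq_mul, h0] at h1
      have := hf' b hbF
      linarith

end CCS

/-! ### the point of a facet -/

lemma pair_span_dual_zero (F : RootCh.Facet P) {z : N} (hz : z ∈ Submodule.span R F.dualCarrier)
    (h : ∀ x ∈ Submodule.span R F.corners, P.toLinearMap x z = 0) : z = 0 := by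
  rw [span_dualCarrier] at hz
  obtain ⟨x, hx, rfl⟩ := hz
  rw [LinearEquiv.coe_coe, LinearEquiv.map_eq_zero_iff]
  by_contra hne
  exact (ip_self_pos (P := P) hne).ne' (h x hx)

lemma exists_y (F : RootCh.Facet P) (z : N) :
    ∃ y ∈ Submodule.span R F.dualCarrier,
      ∀ x ∈ Submodule.span R F.corners, P.toLinearMap x y = P.toLinearMap x z := by
  obtain ⟨b, hb⟩ := exists_cham F
  have : FiniteDimensional R M := Module.Basis.finiteDimensional_of_finite b.toWeightBasis
  let W := Submodule.span R F.corners
  let f : W →ₗ[R] Module.Dual R W :=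
    (P.toLinearMap.compl₂ (pol P).toLinearMap).flip.compl₁₂ W.subtype W.subtype
  have hinj : Function.Injective f := by
    rw [← LinearMap.ker_eq_bot, LinearMap.ker_eq_bot']
    intro x hx
    have h0 : ip P (x : M) (x : M) = 0 := LinearMap.congr_fun hx x
    by_contra hne
    exact (ip_self_pos (P := P) fun e => hne (Subtype.ext e)).ne' h0
  obtain ⟨x0, hx0⟩ := (LinearMap.injective_iff_surjective_of_finrank_eq_finrank
    (Subspace.dual_finrank_eq (K := R) (V := W)).symm).mp hinj ((P.toLinearMap.flip z).comp W.subtype)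
  refine ⟨pol P x0, ?_, fun x hx => LinearMap.congr_fun hx0 ⟨x, hx⟩⟩
  rw [span_dualCarrier]
  exact Submodule.mem_map_of_mem x0.2

section CCS2

variable {d : P.Base → N} (hd : IsCCS d)
include hd

theorem exists_yLocus (F : RootCh.Facet P) :
    ∃ y0 : N, yLocus d F = {y0} ∧
      ∀ b ∈ F.cham, ∀ x ∈ Submodule.span R F.corners,
        P.toLinearMap x y0 = P.toLinearMap x (d b) := by
  obtain ⟨b, hb⟩ := exists_cham F
  obtain ⟨y, hy, hyx⟩ := exists_y F (d b)
  have hmem : y ∈ yLocus d F := by
    refine ⟨?_, hy⟩
    simp only [Set.mem_iInter]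
    intro w hw
    rw [mem_hyper_iff hd (corners_subset_baseCorners F hb hw)]
    exact hyx w (Submodule.subset_span hw)
  refine ⟨y, Set.Subset.antisymm (fun z hz => ?_) (Set.singleton_subset_iff.mpr hmem), ?_⟩
  · obtain ⟨hz1, hz2⟩ := hz
    simp only [Set.mem_iInter] at hz1
    refine sub_eq_zero.mp (pair_span_dual_zero F (Submodule.sub_mem _ hz2 hy) fun x hx => ?_)
    rw [map_sub, pair_of_mem_hyper hd F hb hz1 hx, hyx x hx, sub_self]
  · intro b' hb' x hx
    rw [hyx x hx]
    exact pair_eq_of_mem_span hd F hb hb' hx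

theorem mem_yLocus_of_dualSolid (F : RootCh.Facet P) {y : N}
    (h1 : y ∈ Submodule.span R F.dualCarrier) (h2 : y ∈ dualSolid d F) : y ∈ yLocus d F := by
  rw [dualSolid_eq hd F] at h2
  exact ⟨h2.1, h1⟩

end CCS2

end Groth.Agent.RootChLib
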