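import Groth.Agent.RootCh.Solid

/-! Degrees of facets, elementary sets, special facets, semistability. -/

noncomputable section

set_option linter.unusedSectionVars false

open Module RootCh
open scoped Classical

namespace Groth.Agent.RootChLib

universe u v w x

variable {ι : Type u} {R : Type v} {M : Type w} {N : Type x}
  [Field R] [LinearOrder R] [IsStrictOrderedRing R]
  [AddCommGroup M] [Module R M] [AddCommGroup N] [Module R N] [Finite ι]
  {P : RootPairing ι R M N} [P.IsRootSystem] [P.IsCrystallographic] [P.IsReduced]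

/-- The sum of the roots of the parabolic set of a facet. -/
def parabSum (F : RootCh.Facet P) : M := ∑ i ∈ (Set.toFinite F.parab).toFinset, P.root i

lemma deg_eq_pair (d : P.Base → N) (F : RootCh.Facet P) (b : P.Base) :
    F.deg d b = P.toLinearMap (parabSum F) (d b) := by
  simp [parabSum, RootCh.Facet.deg]

lemma pairing_simple_root (i : ι) (k : ι) : P.coroot' k (P.root i) = P.pairing i k :=
  P.root_coroot'_eq_pairing k i

/-- The sum of the positive roots pairs to `2` with every simple coroot. -/
lemma coroot'_sum_pos [Fintype ι] (b : P.Base) (k : b.support) :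
    P.coroot' k (∑ i ∈ Finset.univ.filter (fun i => b.IsPos i), P.root i) = 2 := by
  have hk : b.IsPos k := RootPairing.Base.isPos_of_mem_support k.2
  rw [← Finset.add_sum_erase _ _ (Finset.mem_filter.mpr ⟨Finset.mem_univ _, hk⟩), map_add,
    coroot'_sum_stable, add_zero]
  · exact P.root_coroot_two k
  · intro i hi
    simp only [Finset.mem_erase, Finset.mem_filter, Finset.mem_univ, true_and] at hi ⊢
    refine ⟨fun e => ?_, RootPairing.Base.IsPos.reflectionPerm hi.2 k.2 hi.1⟩
    have : i = P.reflectionPerm k k := by rw [← P.reflectionPerm_self k i, e]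
    exact (isPos_neg b k).mp (this ▸ hi.2) hk

theorem parabSum_mem_carrier (F : RootCh.Facet P) : parabSum F ∈ F.carrier := by
  have := Fintype.ofFinite ι
  obtain ⟨b, hb⟩ := exists_cham F
  rw [mem_carrier_iff_simple F hb]
  intro k
  set U := Finset.univ.filter (fun i : ι => F.sgn i = 1) with hU
  set L := Finset.univ.filter (fun i : ι => F.sgn i = 0) with hL
  have hL0 : ∑ i ∈ L, P.root i = 0 := by
    refine ext_coroot' b fun l => ?_
    rw [map_zero]
    have : 2 * P.coroot' l (∑ i ∈ L, P.root i) = 0 := by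
      rw [two_mul]
      nth_rw 2 [show ∑ i ∈ L, P.root i = ∑ i ∈ L, -P.root i from ?_]
      · simp
      · refine Finset.sum_nbij' (fun i => P.reflectionPerm i i) (fun i => P.reflectionPerm i i)
          ?_ ?_ (fun i _ => ?_) (fun i _ => ?_) fun i _ => by rw [root_neg', neg_neg]
        · intro i hi; simp [hL, Facet.sgn_neg] at hi ⊢; exact hi
        · intro i hi; simp [hL, Facet.sgn_neg] at hi ⊢; exact hi
        all_goals
          letI := P.indexNeg
          exact neg_neg i
    simpa using this
  have hUk : ∀ l : b.support, l ∉ posIdx F b → P.coroot' l (∑ i ∈ U, P.root i) = 0 := by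
    intro l hl
    refine coroot'_sum_stable _ _ fun i hi => ?_
    simp only [hU, Finset.mem_filter, Finset.mem_univ, true_and] at hi ⊢
    rwa [Facet.sgn_perm F (sgn_eq_zero_of_notMem F hb hl)]
  have hsplit : parabSum F = ∑ i ∈ U, P.root i + ∑ i ∈ L, P.root i := by
    rw [parabSum, ← Finset.sum_union]
    · congr 1
      ext i
      simp only [Set.Finite.mem_toFinset, hU, hL, Finset.mem_union, Finset.mem_filter,
        Finset.mem_univ, true_and]
      change F.sgn i ≠ -1 ↔ _
      cases F.sgn i <;> decide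
    · exact Finset.disjoint_filter.mpr fun i _ h1 h2 => by simp [h1] at h2
  rw [hsplit, hL0, add_zero]
  refine ⟨fun hk => ?_, hUk k⟩
  set Q := Finset.univ.filter (fun i : ι => b.IsPos i ∧ F.sgn i = 0) with hQ
  have hpos : Finset.univ.filter (fun i => b.IsPos i) = U ∪ Q := by
    ext i
    simp only [hU, hQ, Finset.mem_union, Finset.mem_filter, Finset.mem_univ, true_and]
    constructor
    · intro hi
      have := sgn_nonneg_of_isPos F hb hi
      revert this
      cases F.sgn i <;> simp [hi]
    · rintro (h | h)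
      · by_contra hn
        have := sgn_nonneg_of_isPos F hb ((isPos_neg b i).mpr hn)
        rw [Facet.sgn_neg, h] at this
        exact this rfl
      · exact h.1
  have h2 := coroot'_sum_pos b k
  rw [hpos, Finset.sum_union, map_add] at h2
  · have hQk : P.coroot' k (∑ i ∈ Q, P.root i) ≤ 0 := by
      rw [map_sum]
      refine Finset.sum_nonpos fun i hi => ?_
      simp only [hQ, Finset.mem_filter, Finset.mem_univ, true_and] at hi
      rw [root_eq_sum b i, map_sum]
      refine Finset.sum_nonpos fun l _ => ?_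
      rw [map_smul, smul_eq_mul]
      by_cases hlk : l = k
      · subst hlk
        rw [coeff_eq_zero_of_sgn_zero F hb hi.2 hk, zero_mul]
      · rw [pairing_simple_root]
        exact mul_nonpos_of_nonneg_of_nonpos (pos_coeff b hi.1 l) (pairing_simple_nonpos b l k hlk)
    linarith
  · exact Finset.disjoint_filter.mpr fun i _ h1 h2 => by simp [h1] at h2

lemma parabSum_mem_span (F : RootCh.Facet P) : parabSum F ∈ Submodule.span R F.corners := by
  rw [← span_carrier]; exact Submodule.subset_span (parabSum_mem_carrier F)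

lemma mem_closedChamber_parabSum (F : RootCh.Facet P) {b : P.Base} (hb : b ∈ F.cham) :
    parabSum F ∈ closedChamber b := hb (parabSum_mem_carrier F)

lemma mem_Psi_iff (F : RootCh.Facet P) {b : P.Base} (hb : b ∈ F.cham) {k : b.support}
    (hk : k ∈ posIdx F b) (i : ι) :
    i ∈ F.Psi (fundWeight b k) ↔
      ∀ l ∈ posIdx F b, P.root' i (fundCoweight b l) = if l = k then 1 else 0 := by
  simp only [RootCh.Facet.Psi, Set.mem_setOf_eq, corr_fundWeight, forall_eq,
    corners_eq F hb, Set.forall_mem_image, Finset.mem_coe]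
  constructor
  · rintro ⟨h1, h2⟩ l hl
    split
    next h => rw [h]; exact h1
    next h => exact h2 hl (fun e => h (fw_injective b e))
  · intro h
    refine ⟨by simpa using h k hk, fun l hl hne => ?_⟩
    rw [h l hl, if_neg (fun e => hne (by rw [e]))]

lemma simple_mem_Psi (F : RootCh.Facet P) {b : P.Base} (hb : b ∈ F.cham) {k : b.support}
    (hk : k ∈ posIdx F b) : (k : ι) ∈ F.Psi (fundWeight b k) := by
  rw [mem_Psi_iff F hb hk]
  intro l _
  rw [root'_fcw]
  by_cases h : k = l
  · rw [if_pos h, if_pos h.symm]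
  · rw [if_neg h, if_neg (Ne.symm h)]

theorem psiSum_mem_span (F : RootCh.Facet P) {m : M} (hm : m ∈ F.corners) :
    (∑ i ∈ (Set.toFinite (F.Psi m)).toFinset, P.root i) ∈ Submodule.span R F.corners := by
  obtain ⟨b, hb⟩ := exists_cham F
  obtain ⟨k, hk, rfl⟩ := (corners_eq F hb) ▸ hm
  rw [Finset.mem_coe] at hk
  refine mem_span_corners F hb fun j hj => coroot'_sum_stable _ _ fun i hi => ?_
  simp only [Set.Finite.mem_toFinset, mem_Psi_iff F hb hk] at hi ⊢
  intro l hl
  rw [← hi l hl]
  change P.toLinearMap (P.root _) _ = P.toLinearMap (P.root _) _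
  rw [P.root_reflectionPerm, tlm_coreflection, map_sub, map_smul, LinearMap.sub_apply,
    LinearMap.smul_apply]
  have : P.root' j (fundCoweight b l) = 0 := by
    rw [root'_fcw, if_neg fun e => hj (by rw [e]; exact hl)]
  change _ - _ • P.root' j _ = _
  rw [this, smul_zero, sub_zero]

section CCS

variable {d : P.Base → N} (hd : IsCCS d)
include hd

theorem deg_eq_of_cham (F : RootCh.Facet P) {b b' : P.Base} (hb : b ∈ F.cham) (hb' : b' ∈ F.cham) :
    F.deg d b = F.deg d b' := by
  rw [deg_eq_pair, deg_eq_pair]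
  exact pair_eq_of_mem_span hd F hb hb' (parabSum_mem_span F)

theorem numInv_eq_of_cham (F : RootCh.Facet P) {m : M} (hm : m ∈ F.corners)
    {b b' : P.Base} (hb : b ∈ F.cham) (hb' : b' ∈ F.cham) :
    F.numInv d m b = F.numInv d m b' := by
  have e : ∀ c : P.Base, F.numInv d m c = P.toLinearMap
      (∑ i ∈ (Set.toFinite (F.Psi m)).toFinset, P.root i) (d c) := fun c => by
    simp [RootCh.Facet.numInv]
  rw [e, e]
  exact pair_eq_of_mem_span hd F hb hb' (psiSum_mem_span F hm)

/-- The numerical invariant is a multiple of the coordinate of the point of the facet. -/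
theorem numInv_eq_card_mul (F : RootCh.Facet P) {b : P.Base} (hb : b ∈ F.cham) {k : b.support}
    (hk : k ∈ posIdx F b) {y : N} (hy : y ∈ Submodule.span R F.dualCarrier)
    (hyx : ∀ x ∈ Submodule.span R F.corners, P.toLinearMap x y = P.toLinearMap x (d b)) :
    F.numInv d (fundWeight b k) b =
      ((Set.toFinite (F.Psi (fundWeight b k))).toFinset.card : R) * P.root' k y := by
  have hm : fundWeight b k ∈ F.corners := (fundWeight_mem_corners_iff F hb k).mpr hk
  have hy0 : ∀ l : b.support, l ∉ posIdx F b → P.root' l y = 0 := by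
    intro l hl
    rw [span_dualCarrier] at hy
    obtain ⟨x, hx, rfl⟩ := hy
    rw [LinearEquiv.coe_coe, root'_pol, coroot'_of_mem_span_corners F hb hx hl, mul_zero]
  have e : F.numInv d (fundWeight b k) b = P.toLinearMap
      (∑ i ∈ (Set.toFinite (F.Psi (fundWeight b k))).toFinset, P.root i) (d b) := by
    simp [RootCh.Facet.numInv]
  rw [e, ← hyx _ (psiSum_mem_span F hm), map_sum, LinearMap.coe_sum, Finset.sum_apply,
    ← nsmul_eq_mul, ← Finset.sum_const]
  refine Finset.sum_congr rfl fun i hi => ?_
  rw [Set.Finite.mem_toFinset, mem_Psi_iff F hb hk] at hi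
  change P.root' i y = _
  rw [root'_eq_sum b i, Finset.sum_eq_single k ?_ (fun h => absurd (Finset.mem_univ k) h),
    hi k hk, if_pos rfl, one_mul]
  intro l _ hl
  by_cases hlF : l ∈ posIdx F b
  · rw [hi l hlF, if_neg hl, zero_mul]
  · rw [hy0 l hlF, mul_zero]

/-- Characterisation of special facets by (S1) and (S2). -/
theorem special_iff (F : RootCh.Facet P) :
    ((∀ m ∈ F.corners, ∀ b ∈ F.cham, 0 < F.numInv d m b) ∧
        (dualSolid d F ∩ (Submodule.span R F.dualCarrier : Set N)).Nonempty) ↔
      IsSpecial d F := by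
  constructor
  · rintro ⟨h1, y, hy2, hy1⟩
    obtain ⟨b, hb⟩ := exists_cham F
    refine ⟨y, (mem_dualCarrier_iff F hb hy1).mpr fun k hk => ?_, hy2⟩
    have h := h1 _ ((fundWeight_mem_corners_iff F hb k).mpr hk) b hb
    rw [numInv_eq_card_mul hd F hb hk hy1 fun x hx => dualSolid_pair hd F hb hy2 hx] at h
    exact pos_of_mul_pos_right h (Nat.cast_nonneg _)
  · rintro ⟨y, hy1, hy2⟩
    have hspan : y ∈ Submodule.span R F.dualCarrier := Submodule.subset_span hy1
    refine ⟨fun m hm b hb => ?_, y, hy2, hspan⟩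
    obtain ⟨k, hk, rfl⟩ := (corners_eq F hb) ▸ hm
    rw [numInv_eq_card_mul hd F hb hk hspan fun x hx => dualSolid_pair hd F hb hy2 hx]
    refine mul_pos ?_ ((mem_dualCarrier_iff F hb hspan).mp hy1 k hk)
    have hne : (Set.toFinite (F.Psi (fundWeight b k))).toFinset.Nonempty :=
      ⟨_, (Set.Finite.mem_toFinset _).mpr (simple_mem_Psi F hb hk)⟩
    exact_mod_cast Finset.card_pos.mpr hne

/-- The special facet has the largest degree, and is the largest such facet. -/
theorem special_greatest {F G : RootCh.Facet P} {b c : P.Base} (hb : b ∈ F.cham) (hc : c ∈ G.cham)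
    (hF : IsSpecial d F) :
    G.deg d c ≤ F.deg d b ∧ (G.deg d c = F.deg d b → G ≤ F) := by
  obtain ⟨y, hy1, hy2⟩ := hF
  have := Fintype.ofFinite ι
  have hsgn : ∀ i, SignType.sign (P.root' i y) = F.sgn i := fun i => congrFun hy1 i
  have hsum : ∀ H : RootCh.Facet P, P.toLinearMap (parabSum H) y =
      ∑ i, if H.sgn i ≠ -1 then P.root' i y else 0 := fun H => by
    rw [← Finset.sum_filter, parabSum, map_sum, LinearMap.coe_sum, Finset.sum_apply]
    exact Finset.sum_congr (by ext i; simp [RootCh.Facet.parab]) fun i _ => rfl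
  have h1 : G.deg d c ≤ P.toLinearMap (parabSum G) y := by
    rw [deg_eq_pair]
    exact solid_le hd (dualSolid_subset_solid hd F hy2) (mem_closedChamber_parabSum G hc)
  have h2 : F.deg d b = P.toLinearMap (parabSum F) y := by
    rw [deg_eq_pair, dualSolid_pair hd F hb hy2 (parabSum_mem_span F)]
  have hpos : ∀ i, F.sgn i ≠ -1 ↔ 0 ≤ P.root' i y := fun i => by rw [← hsgn i, sgn_ne_neg_iff]
  have h3 : ∀ i, (if G.sgn i ≠ -1 then P.root' i y else 0) ≤
      if F.sgn i ≠ -1 then P.root' i y else 0 := by
    intro i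
    by_cases hf : F.sgn i ≠ -1 <;> by_cases hg : G.sgn i ≠ -1
    · rw [if_pos hf, if_pos hg]
    · rw [if_pos hf, if_neg hg]; exact (hpos i).mp hf
    · rw [if_neg hf, if_pos hg]; exact (not_le.mp (fun h => hf ((hpos i).mpr h))).le
    · rw [if_neg hf, if_neg hg]
  have h4 : P.toLinearMap (parabSum G) y ≤ P.toLinearMap (parabSum F) y := by
    rw [hsum, hsum]; exact Finset.sum_le_sum fun i _ => h3 i
  refine ⟨h1.trans (h4.trans_eq h2.symm), fun he => ?_⟩
  rw [le_iff_parab]
  intro i hi
  by_contra hif
  have heq : P.toLinearMap (parabSum G) y = P.toLinearMap (parabSum F) y :=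
    le_antisymm h4 (by rw [← h2, ← he]; exact h1)
  rw [hsum, hsum, Finset.sum_eq_sum_iff_of_le fun i _ => h3 i] at heq
  have h5 := heq i (Finset.mem_univ i)
  change G.sgn i ≠ -1 at hi
  change ¬ F.sgn i ≠ -1 at hif
  rw [if_pos hi, if_neg hif] at h5
  exact hif ((hpos i).mpr h5.ge)

/-- A facet of maximal degree, largest among these, is special. -/
theorem special_of_maximal (F : RootCh.Facet P) (b : P.Base) (hb : b ∈ F.cham)
    (hmax : ∀ (G : RootCh.Facet P) (c : P.Base), c ∈ G.cham → G.deg d c ≤ F.deg d b)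
    (hmaxl : ∀ (G : RootCh.Facet P) (c : P.Base), c ∈ G.cham → G.deg d c = F.deg d b → F ≤ G → G = F) :
    IsSpecial d F := by
  have := Fintype.ofFinite ι
  obtain ⟨y, hyL, hyx⟩ := exists_yLocus hd F
  have hymem : y ∈ yLocus d F := hyL ▸ rfl
  have hyspan : y ∈ Submodule.span R F.dualCarrier := hymem.2
  have hy0 : ∀ (b' : P.Base), b' ∈ F.cham → ∀ l : b'.support, l ∉ posIdx F b' →
      P.root' l y = 0 := by
    intro b' hb' l hl
    rw [span_dualCarrier] at hyspan
    obtain ⟨x, hx, rfl⟩ := hyspan
    rw [LinearEquiv.coe_coe, root'_pol, coroot'_of_mem_span_corners F hb' hx hl, mul_zero]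
  have hdiff : ∀ (G H : RootCh.Facet P) (c : P.Base), G.parab ⊆ H.parab →
      H.deg d c = G.deg d c + P.toLinearMap
        (∑ i ∈ Finset.univ.filter (fun i => H.sgn i ≠ -1 ∧ G.sgn i = -1), P.root i) (d c) := by
    intro G H c hsub
    rw [deg_eq_pair, deg_eq_pair, ← LinearMap.add_apply, ← map_add]
    congr 2
    rw [parabSum, parabSum, ← Finset.sum_union]
    · congr 1
      ext i
      simp only [Set.Finite.mem_toFinset, Finset.mem_union, Finset.mem_filter, Finset.mem_univ,
        true_and]
      change H.sgn i ≠ -1 ↔ G.sgn i ≠ -1 ∨ _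
      have := @hsub i
      change G.sgn i ≠ -1 → H.sgn i ≠ -1 at this
      tauto
    · rw [Finset.disjoint_left]
      intro i h1 h2
      simp only [Set.Finite.mem_toFinset] at h1
      exact h1 (Finset.mem_filter.mp h2).2.2
  refine ⟨y, (mem_dualCarrier_iff F hb hyspan).mpr fun k hk => ?_, ?_⟩
  · by_contra hak
    rw [not_lt] at hak
    set G := facetOf b ((posIdx F b).erase k) with hG
    have hbG : b ∈ G.cham := mem_cham_facetOf b _
    have hGF : F ≤ G := by
      intro i
      by_cases h0 : G.sgn i = 0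
      · exact Or.inl h0
      · right
        have aux : ∀ j, b.IsPos j → G.sgn j = 1 → F.sgn j = 1 := fun j hj h => by
          obtain ⟨l, hl, hl'⟩ := (sgn_eq_one_iff_coeff G hbG hj).mp h
          rw [hG, posIdx_facetOf, Finset.mem_erase] at hl
          exact (sgn_eq_one_iff_coeff F hb hj).mpr ⟨l, hl.2, hl'⟩
        by_cases hi : b.IsPos i
        · have h1 := sgn_nonneg_of_isPos G hbG hi
          have h2 : G.sgn i = 1 := by revert h0 h1; cases G.sgn i <;> decide
          rw [h2, aux i hi h2]
        · have hni := (isPos_neg b i).mpr hi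
          have h1 := sgn_nonneg_of_isPos G hbG hni
          rw [Facet.sgn_neg] at h1
          have h2 : G.sgn i = -1 := by revert h0 h1; cases G.sgn i <;> decide
          have h3 := aux _ hni (by rw [Facet.sgn_neg, h2]; rfl)
          rw [Facet.sgn_neg, neg_eq_iff_eq_neg] at h3
          rw [h2, h3]
    set D := Finset.univ.filter (fun i => G.sgn i ≠ -1 ∧ F.sgn i = -1) with hD
    have hτ : (∑ i ∈ D, P.root i) ∈ Submodule.span R F.corners := by
      refine mem_span_corners F hb fun j hj => coroot'_sum_stable _ _ fun i hi => ?_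
      have hjG : G.sgn j = 0 := sgn_eq_zero_of_notMem G hbG (by
        rw [hG, posIdx_facetOf, Finset.mem_erase]; exact fun h => hj h.2)
      simp only [hD, Finset.mem_filter, Finset.mem_univ, true_and] at hi ⊢
      rw [Facet.sgn_perm G hjG, Facet.sgn_perm F (sgn_eq_zero_of_notMem F hb hj)]
      exact hi
    have hG0 : G.deg d b = F.deg d b + P.toLinearMap (∑ i ∈ D, P.root i) y := by
      rw [hdiff F G b ((le_iff_parab F G).mp hGF), hyx b hb _ hτ]
    have hnn : 0 ≤ P.toLinearMap (∑ i ∈ D, P.root i) y := by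
      rw [map_sum, LinearMap.coe_sum, Finset.sum_apply]
      refine Finset.sum_nonneg fun i hi => ?_
      simp only [hD, Finset.mem_filter, Finset.mem_univ, true_and] at hi
      change 0 ≤ P.root' i y
      have hG0i : G.sgn i = 0 := (hGF i).resolve_right fun e => hi.1 (e.trans hi.2)
      rw [root'_eq_sum b i]
      refine Finset.sum_nonneg fun l _ => ?_
      by_cases hl : l ∈ posIdx F b
      · by_cases hlk : l = k
        · subst hlk
          refine mul_nonneg_of_nonpos_of_nonpos ?_ hak
          have hn : b.IsPos (P.reflectionPerm i i) := by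
            rw [isPos_neg]
            exact fun h => sgn_nonneg_of_isPos F hb h hi.2
          have := pos_coeff b hn l
          rw [root'_neg] at this
          linarith
        · rw [coeff_eq_zero_of_sgn_zero G hbG hG0i (by
            rw [hG, posIdx_facetOf, Finset.mem_erase]; exact ⟨hlk, hl⟩), zero_mul]
      · rw [hy0 b hb l hl, mul_zero]
    have hGeq := hmaxl G b hbG (le_antisymm (hmax G b hbG) (by rw [hG0]; linarith)) hGF
    rw [← hGeq, hG, posIdx_facetOf] at hk
    exact (Finset.mem_erase.mp hk).1 rfl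
  · rw [dualSolid_eq hd]
    refine ⟨hymem.1, ?_⟩
    simp only [Set.mem_iInter]
    intro m hm
    obtain ⟨b1, hb1, hm1⟩ := Set.mem_iUnion₂.mp hm
    rw [baseCorners_eq] at hm1
    obtain ⟨j, rfl⟩ := hm1
    rw [mem_halfClosed_iff hd (mem_baseCorners b1 j)]
    by_cases hj : j ∈ posIdx F b1
    · rw [hyx b1 hb1 _ (Submodule.subset_span ((fundWeight_mem_corners_iff F hb1 j).mpr hj))]
    set G := facetOf b1 (insert j (posIdx F b1)) with hG
    have hbG : b1 ∈ G.cham := mem_cham_facetOf b1 _
    have hFj : F.sgn j = 0 := sgn_eq_zero_of_notMem F hb1 hj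
    have hGF : G ≤ F := by
      intro i
      by_cases h0 : F.sgn i = 0
      · exact Or.inl h0
      · right
        have aux : ∀ a, b1.IsPos a → F.sgn a = 1 → G.sgn a = 1 := fun a ha h => by
          obtain ⟨l, hl, hl'⟩ := (sgn_eq_one_iff_coeff F hb1 ha).mp h
          exact (sgn_eq_one_iff_coeff G hbG ha).mpr
            ⟨l, by rw [hG, posIdx_facetOf]; exact Finset.mem_insert_of_mem hl, hl'⟩
        by_cases hi : b1.IsPos i
        · have h1 := sgn_nonneg_of_isPos F hb1 hi
          have h2 : F.sgn i = 1 := by revert h0 h1; cases F.sgn i <;> decide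
          rw [h2, aux i hi h2]
        · have hni := (isPos_neg b1 i).mpr hi
          have h1 := sgn_nonneg_of_isPos F hb1 hni
          rw [Facet.sgn_neg] at h1
          have h2 : F.sgn i = -1 := by revert h0 h1; cases F.sgn i <;> decide
          have h3 := aux _ hni (by rw [Facet.sgn_neg, h2]; rfl)
          rw [Facet.sgn_neg, neg_eq_iff_eq_neg] at h3
          rw [h2, h3]
    set D := Finset.univ.filter (fun i => F.sgn i ≠ -1 ∧ G.sgn i = -1) with hD
    set τ := ∑ i ∈ D, P.root i with hτdef
    have hτ : τ ∈ Submodule.span R G.corners := by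
      refine mem_span_corners G hbG fun l hl => coroot'_sum_stable _ _ fun i hi => ?_
      have hlF : F.sgn l = 0 := sgn_eq_zero_of_notMem F hb1 (fun h => hl (by
        rw [hG, posIdx_facetOf]; exact Finset.mem_insert_of_mem h))
      simp only [hD, Finset.mem_filter, Finset.mem_univ, true_and] at hi ⊢
      rw [Facet.sgn_perm F hlF, Facet.sgn_perm G (sgn_eq_zero_of_notMem G hbG hl)]
      exact hi
    have hDprop : ∀ i ∈ D, F.sgn i = 0 ∧ ∀ l ∈ posIdx F b1, P.root' i (fundCoweight b1 l) = 0 := by
      intro i hi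
      simp only [hD, Finset.mem_filter, Finset.mem_univ, true_and] at hi
      have h0 : F.sgn i = 0 := (hGF i).resolve_right fun e => hi.1 (e.trans hi.2)
      exact ⟨h0, fun l hl => coeff_eq_zero_of_sgn_zero F hb1 h0 hl⟩
    have hτy : P.toLinearMap τ y = 0 := by
      rw [hτdef, map_sum, LinearMap.coe_sum, Finset.sum_apply]
      refine Finset.sum_eq_zero fun i hi => ?_
      change P.root' i y = 0
      rw [root'_eq_sum b1 i]
      refine Finset.sum_eq_zero fun l _ => ?_
      by_cases hl : l ∈ posIdx F b1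
      · rw [(hDprop i hi).2 l hl, zero_mul]
      · rw [hy0 b1 hb1 l hl, mul_zero]
    have hge : 0 ≤ P.toLinearMap τ (d b1) := by
      have h1 := hdiff G F b1 ((le_iff_parab G F).mp hGF)
      have h2 := hmax G b1 hbG
      rw [deg_eq_of_cham hd F hb hb1] at h2
      rw [← hD, ← hτdef] at h1
      linarith
    have hexp : ∀ z : N, P.toLinearMap τ z = P.coroot' j τ * P.toLinearMap (fundWeight b1 j) z +
        ∑ l ∈ posIdx F b1, P.coroot' l τ * P.toLinearMap (fundWeight b1 l) z := by
      intro z
      conv_lhs => rw [sum_coroot'_smul_fw b1 τ]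
      rw [map_sum, LinearMap.coe_sum, Finset.sum_apply,
        ← Finset.sum_subset (Finset.subset_univ (insert j (posIdx F b1))), Finset.sum_insert hj]
      · simp
      · intro l _ hl
        rw [coroot'_of_mem_span_corners G hbG hτ (by rw [hG, posIdx_facetOf]; exact hl), zero_smul,
          map_zero, LinearMap.zero_apply]
    have h3 : 0 ≤ P.coroot' j τ * (P.toLinearMap (fundWeight b1 j) (d b1) -
        P.toLinearMap (fundWeight b1 j) y) := by
      have e1 := hexp (d b1)
      have e2 := hexp y
      have e3 : ∑ l ∈ posIdx F b1, P.coroot' l τ * P.toLinearMap (fundWeight b1 l) (d b1) =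
          ∑ l ∈ posIdx F b1, P.coroot' l τ * P.toLinearMap (fundWeight b1 l) y := by
        refine Finset.sum_congr rfl fun l hl => ?_
        rw [hyx b1 hb1 _ (Submodule.subset_span ((fundWeight_mem_corners_iff F hb1 l).mpr hl))]
      rw [mul_sub]
      linarith
    have hjD : P.reflectionPerm j j ∈ D := by
      simp only [hD, Finset.mem_filter, Finset.mem_univ, true_and]
      rw [Facet.sgn_neg, Facet.sgn_neg, hFj,
        (mem_posIdx G).mp (show j ∈ posIdx G b1 by rw [hG, posIdx_facetOf]; exact Finset.mem_insert_self _ _)]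
      decide
    set S := ∑ i ∈ D, P.root' i (fundCoweight b1 j) with hS
    have hB : ip P τ τ = S * (cw P j * P.coroot' j τ) := by
      rw [hS, Finset.sum_mul]
      conv_lhs => rw [ip, hτdef, map_sum, LinearMap.coe_sum, Finset.sum_apply]
      refine Finset.sum_congr rfl fun i hi => ?_
      change P.root' i (pol P τ) = _
      rw [root'_eq_sum b1 i, Finset.sum_eq_single_of_mem j (Finset.mem_univ j), root'_pol]
      intro l _ hl
      by_cases hlF : l ∈ posIdx F b1
      · rw [(hDprop i hi).2 l hlF, zero_mul]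
      · rw [root'_pol, coroot'_of_mem_span_corners G hbG hτ (by
          rw [hG, posIdx_facetOf, Finset.mem_insert]; exact fun h => h.elim hl hlF), mul_zero,
          mul_zero]
    have hSneg : S < 0 := by
      refine Finset.sum_neg' (fun i hi => ?_) ⟨_, hjD, ?_⟩
      · simp only [hD, Finset.mem_filter, Finset.mem_univ, true_and] at hi
        have hn : b1.IsPos (P.reflectionPerm i i) := by
          rw [isPos_neg]
          exact fun h => sgn_nonneg_of_isPos G hbG h hi.2
        have := pos_coeff b1 hn j
        rw [root'_neg] at this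
        linarith
      · rw [root'_neg, root'_fundCoweight_self]
        norm_num
    have hτne : τ ≠ 0 := by
      intro h
      have h' := congrArg (fun x => P.toLinearMap x (fundCoweight b1 j)) h
      simp only [hτdef, map_sum, map_zero, LinearMap.coe_sum, Finset.sum_apply,
        LinearMap.zero_apply] at h'
      exact hSneg.ne h'
    have hp : P.coroot' j τ < 0 := by
      have h4 : 0 < S * (cw P j * P.coroot' j τ) := hB ▸ ip_self_pos hτne
      have h5 : cw P j * P.coroot' j τ < 0 := by nlinarith
      have := cw_pos (P := P) (j : ι)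
      nlinarith
    by_contra hlt
    rw [not_le] at hlt
    nlinarith

theorem existsUnique_special : ∃! F : RootCh.Facet P, IsSpecial d F := by
  have := finite_facet (P := P)
  choose ch hch using fun F : RootCh.Facet P => exists_cham F
  have : Nonempty (RootCh.Facet P) := ⟨RootCh.Facet.origin P⟩
  obtain ⟨F0, hF0⟩ := Finite.exists_max (fun F : RootCh.Facet P => F.deg d (ch F))
  let S : Set (RootCh.Facet P) := {F | F.deg d (ch F) = F0.deg d (ch F0)}
  obtain ⟨F, hFS, hFmax⟩ := (Set.toFinite S).exists_maximal ⟨F0, rfl⟩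
  refine ⟨F, special_of_maximal hd F (ch F) (hch F) (fun G c hc => ?_) (fun G c hc he hle => ?_), ?_⟩
  · rw [deg_eq_of_cham hd G hc (hch G), hFS]
    exact hF0 G
  · refine le_antisymm (hFmax ?_ hle) hle
    change G.deg d (ch G) = _
    rw [← deg_eq_of_cham hd G hc (hch G), he]
    exact hFS
  · intro G hG
    have h1 := special_greatest hd (F := G) (G := F) (hch G) (hch F) hG
    have hle : G.deg d (ch G) ≤ F.deg d (ch F) := hFS ▸ hF0 G
    have hFG : F ≤ G := h1.2 (le_antisymm h1.1 hle)
    exact le_antisymm (hFmax (show G.deg d (ch G) = _ by rw [← hFS]; exact le_antisymm hle h1.1) hFG) hFG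

end CCS

/-! ### the origin, semistability -/

lemma origin_cham (b : P.Base) : b ∈ (RootCh.Facet.origin P).cham := by
  rw [RootCh.Facet.origin, mem_cham_ofVec]
  intro i _
  rw [map_zero]

lemma origin_corners : (RootCh.Facet.origin P).corners = ∅ := by
  obtain ⟨b, hb⟩ := exists_cham (RootCh.Facet.origin P)
  rw [corners_eq _ hb]
  simp only [Set.image_eq_empty, Finset.coe_eq_empty, Finset.eq_empty_iff_forall_notMem]
  intro k hk
  rw [mem_posIdx] at hk
  have : (RootCh.Facet.origin P).sgn k = 0 := by
    change sgnVec P (0 : M) k = 0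
    rw [sgnVec, map_zero, sign_zero]
  rw [this] at hk
  exact absurd hk (by decide)

lemma solid_eq_dualSolid_origin (d : P.Base → N) :
    solid d = dualSolid d (RootCh.Facet.origin P) := by
  rw [solid, dualSolid, show (RootCh.Facet.origin P).cham = Set.univ from
    Set.eq_univ_of_forall origin_cham, Set.image_univ]

theorem semistable_iff_corners {d : P.Base → N} (hd : IsCCS d) :
    (∀ (b : P.Base), ∀ m ∈ baseCorners b, P.toLinearMap m (d b) ≤ 0) ↔ IsSemistable d := by
  constructor
  · intro h
    rw [IsSemistable, solid_eq_dualSolid_origin, dualSolid_eq hd, origin_corners]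
    refine ⟨by simp, ?_⟩
    simp only [Set.mem_iInter]
    intro m _ b hb
    rw [map_zero]
    exact h b m hb
  · intro h b m hm
    have h2 := solid_le hd h hm.2
    rwa [map_zero] at h2

theorem deg_nonpos_of_semistable {d : P.Base → N} (hd : IsCCS d) (h : IsSemistable d)
    (F : RootCh.Facet P) (b : P.Base) (hb : b ∈ F.cham) : F.deg d b ≤ 0 := by
  have h2 := solid_le hd h (mem_closedChamber_parabSum F hb)
  rw [map_zero, ← deg_eq_pair] at h2
  exact h2

theorem dim_facetOf_singleton (b : P.Base) (k : b.support) : (facetOf b {k}).dim = 1 := by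
  rw [RootCh.Facet.dim, span_carrier, corners_facetOf, Finset.coe_singleton, Set.image_singleton,
    finrank_span_singleton (fundWeight_ne_zero b k)]

theorem semistable_of_dim_one {d : P.Base → N} (hd : IsCCS d)
    (h : ∀ (F : RootCh.Facet P) (b : P.Base), F.dim = 1 → b ∈ F.cham → F.deg d b ≤ 0) :
    IsSemistable d := by
  rw [← semistable_iff_corners hd]
  intro b m hm
  rw [baseCorners_eq] at hm
  obtain ⟨k, rfl⟩ := hm
  have hb := mem_cham_facetOf b {k}
  have h1 := h _ b (dim_facetOf_singleton b k) hb
  have hc := parabSum_mem_carrier (facetOf b {k})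
  rw [deg_eq_pair, eq_sum_posIdx _ hb hc, posIdx_facetOf, Finset.sum_singleton, map_smul,
    LinearMap.smul_apply, smul_eq_mul] at h1
  have hpos : 0 < P.coroot' k (parabSum (facetOf b {k})) :=
    coroot'_pos_of_mem_carrier _ hc (by rw [posIdx_facetOf]; exact Finset.mem_singleton_self k)
  exact nonpos_of_mul_nonpos_right h1 hpos

/-! ### metric characterisation -/

section Metric

variable (B : LinearMap.BilinForm R N) (hBi : ∀ (i : ι) (y z : N),
  B (P.coreflection i y) (P.coreflection i z) = B y z)
include hBi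

lemma two_mul_bilin (i : ι) (y : N) :
    2 * B y (P.coroot i) = P.root' i y * B (P.coroot i) (P.coroot i) := by
  have h := hBi i y (P.coroot i)
  rw [P.coreflection_apply_self, P.coreflection_apply, map_sub, map_smul, LinearMap.sub_apply,
    LinearMap.smul_apply, map_neg, map_neg, smul_eq_mul] at h
  linarith

/-- The functional `B y ·` as a vector of `M` lies in the facet of `y`. -/
lemma dual_mem_carrier (hBp : ∀ y : N, y ≠ 0 → 0 < B y y) {F : RootCh.Facet P} {y : N}
    (hy : y ∈ F.dualCarrier) : P.toPerfPair.symm (B y) ∈ F.carrier := by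
  rw [mem_carrier_iff, ← show cosgnVec P y = F.sgn from hy]
  funext i
  have h2 : P.coroot' i (P.toPerfPair.symm (B y)) = B y (P.coroot i) := by
    change P.toLinearMap _ _ = _
    rw [LinearMap.apply_symm_toPerfPair_self]
  have h3 : B y (P.coroot i) = P.root' i y * (B (P.coroot i) (P.coroot i) / 2) := by
    have := two_mul_bilin B hBi i y
    linarith
  rw [sgnVec, cosgnVec, h2, h3, sign_mul, sign_pos (half_pos (hBp _ (P.ne_zero' i))), mul_one]

theorem special_isMin {d : P.Base → N} (hd : IsCCS d) (hBs : ∀ y z : N, B y z = B z y)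
    (hBp : ∀ y : N, y ≠ 0 → 0 < B y y) (F : RootCh.Facet P) (hF : IsSpecial d F) :
    ∃ y₀ : N, yLocus d F = {y₀} ∧ y₀ ∈ solid d ∧
      ∀ y ∈ solid d, y ≠ y₀ → B y₀ y₀ < B y y := by
  obtain ⟨y0, hy1, hy2⟩ := hF
  obtain ⟨y', hy', -⟩ := exists_yLocus hd F
  have hmem := mem_yLocus_of_dualSolid hd F (Submodule.subset_span hy1) hy2
  have he : y0 = y' := by rwa [hy', Set.mem_singleton_iff] at hmem
  subst he
  refine ⟨y0, hy', dualSolid_subset_solid hd F hy2, fun y hy hne => ?_⟩
  obtain ⟨b, hb⟩ := exists_cham F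
  set ξ := P.toPerfPair.symm (B y0) with hξ
  have hξc : ξ ∈ F.carrier := dual_mem_carrier B hBi hBp hy1
  have h1 := solid_le hd hy (hb hξc)
  rw [← dualSolid_pair hd F hb hy2 (by rw [← span_carrier]; exact Submodule.subset_span hξc),
    hξ, LinearMap.apply_symm_toPerfPair_self] at h1
  have h2 := hBp (y - y0) (sub_ne_zero.mpr hne)
  simp only [map_sub, LinearMap.sub_apply, hBs y y0] at h2
  linarith

theorem isMin_special {d : P.Base → N} (hd : IsCCS d) (hBs : ∀ y z : N, B y z = B z y)
    (hBp : ∀ y : N, y ≠ 0 → 0 < B y y) (y₀ : N) (hy₀ : y₀ ∈ solid d)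
    (hmin : ∀ y ∈ solid d, B y₀ y₀ ≤ B y y)
    (F : RootCh.Facet P) (hF : y₀ ∈ F.dualCarrier) :
    IsSpecial d F ∧ yLocus d F = {y₀} := by
  have hvar : ∀ y ∈ solid d, B y₀ y₀ ≤ B y₀ y := by
    intro y hy
    by_contra! hlt
    set E := B y₀ y₀ - B y₀ y
    set Q := B (y - y₀) (y - y₀)
    have hE : 0 < E := sub_pos.mpr hlt
    have hne : y - y₀ ≠ 0 := fun e => by rw [sub_eq_zero.mp e] at hlt; exact lt_irrefl _ hlt
    have hQ : 0 < Q := hBp _ hne
    set t := min 1 (E / Q)
    have ht0 : 0 < t := lt_min one_pos (div_pos hE hQ)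
    have ht1 : t ≤ 1 := min_le_left _ _
    have htQ : t * Q ≤ E := by rw [← le_div_iff₀ hQ]; exact min_le_right _ _
    have hm := hmin _ ((convex_convexHull R _) hy₀ hy (sub_nonneg.mpr ht1) ht0.le (sub_add_cancel 1 t))
    simp only [Q, map_sub, LinearMap.sub_apply, map_add, map_smul, LinearMap.add_apply,
      LinearMap.smul_apply, smul_eq_mul, hBs y y₀] at hm htQ
    simp only [E] at htQ hE
    nlinarith
  obtain ⟨b, hb⟩ := exists_cham F
  set ξ := P.toPerfPair.symm (B y₀) with hξ
  have hξc : ξ ∈ F.carrier := dual_mem_carrier B hBi hBp hF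
  have hle : P.toLinearMap ξ y₀ ≤ P.toLinearMap ξ (d b) := by
    rw [hξ, LinearMap.apply_symm_toPerfPair_self]
    exact hvar _ (subset_convexHull R _ ⟨b, rfl⟩)
  have hge : ∀ k : b.support, P.toLinearMap (fundWeight b k) (d b) ≤
      P.toLinearMap (fundWeight b k) y₀ := fun k =>
    solid_le hd hy₀ (fundWeight_mem_closedChamber b k)
  rw [eq_sum_posIdx F hb hξc] at hle
  simp only [map_sum, map_smul, LinearMap.coe_sum, Finset.sum_apply, LinearMap.smul_apply,
    smul_eq_mul] at hle
  have hterm : ∀ k ∈ posIdx F b, P.coroot' k ξ * P.toLinearMap (fundWeight b k) (d b) ≤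
      P.coroot' k ξ * P.toLinearMap (fundWeight b k) y₀ := fun k hk =>
    mul_le_mul_of_nonneg_left (hge k) (coroot'_pos_of_mem_carrier F hξc hk).le
  have heq := (Finset.sum_eq_sum_iff_of_le hterm).mp (le_antisymm (Finset.sum_le_sum hterm) hle)
  have hmem : y₀ ∈ dualSolid d F := by
    rw [dualSolid_eq hd]
    refine ⟨?_, ?_⟩
    · simp only [Set.mem_iInter]
      intro m hm
      rw [mem_hyper_iff hd (corners_subset_baseCorners F hb hm)]
      obtain ⟨k, hk, rfl⟩ := (corners_eq F hb) ▸ hm
      exact (mul_left_cancel₀ (coroot'_pos_of_mem_carrier F hξc hk).ne' (heq k hk)).symm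
    · simp only [Set.mem_iInter]
      exact fun m _ => mem_halfClosed_of_mem_solid hd hy₀ m
  refine ⟨⟨y₀, hF, hmem⟩, ?_⟩
  obtain ⟨y', hy', -⟩ := exists_yLocus hd F
  have := mem_yLocus_of_dualSolid hd F (Submodule.subset_span hF) hmem
  rw [hy', Set.mem_singleton_iff] at this
  rw [hy', this]

end Metric

end Groth.Agent.RootChLib
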